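import Groth.Agent.KSplit.Model
import Groth.Agent.KRRLam.ElemFil
import Groth.Agent.S3788
import Groth.Agent.S3789

/-!
The γ-filtration and inverse image along projective bundles.
-/

set_option autoImplicit false
set_option linter.unusedSectionVars false
set_option linter.style.haveILetI false
set_option backward.isDefEq.respectTransparency false
set_option backward.isDefEq.respectTransparency.types false
set_option maxHeartbeats 1000000

universe v w u

open CategoryTheory CategoryTheory.Limits AlgebraicGeometry TopologicalSpace Opposite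
open LambdaRing

noncomputable section

namespace Groth.Agent.KSplit

section Transfer

variable {A : Type v} {B : Type w} [CommRing A] [CommRing B] [LambdaOps A] [LambdaOps B]
  {PA : PosStructure A} {PB : PosStructure B}

theorem map_gamma' (f : A →+* B) (hlam : ∀ i x, f (LambdaOps.lam i x) = LambdaOps.lam i (f x)) (k : ℕ) (x : A) :
    f (gamma k x) = gamma k (f x) := by
  rw [gamma, gamma]
  split_ifs with h
  · exact map_one f
  · rw [map_sum]
    refine Finset.sum_congr rfl fun j _ => ?_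
    rw [map_mul, map_natCast]
    split_ifs with hj
    · rw [map_zero]
    · rw [hlam]

/-- An isomorphism of lambda-rings with augmentation respects the γ-filtration. -/
theorem mem_gammaFiltration_iff (f : A →+* B) (hf : Function.Bijective f)
    (hlam : ∀ i x, f (LambdaOps.lam i x) = LambdaOps.lam i (f x)) (haug : ∀ x, PB.aug (f x) = PA.aug x)
    (n : ℕ) (x : A) : f x ∈ gammaFiltration PB n ↔ x ∈ gammaFiltration PA n := by
  rcases eq_or_ne n 0 with rfl | hn
  · exact iff_of_true (Lambda.gammaFiltration_zero _) (Lambda.gammaFiltration_zero _)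
  constructor
  · intro h
    obtain ⟨g, hg, hg'⟩ := Function.bijective_iff_has_inverse.1 hf
    suffices hs : g (f x) ∈ gammaFiltration PA n by rwa [hg] at hs
    refine Lambda.gammaFiltration_induction (motive := fun y => g y ∈ gammaFiltration PA n) hn h
      (fun l hl hsum => ?_) ?_ ?_ ?_
    · have e : g (l.map fun p => gamma p.1 p.2).prod =
          ((l.map fun p => (p.1, g p.2)).map fun p => gamma p.1 p.2).prod := by
        refine hf.1 ?_
        rw [hg', map_list_prod, List.map_map, List.map_map]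
        exact congrArg List.prod (List.map_congr_left fun p _ => by
          simp only [Function.comp_apply, map_gamma' f hlam, hg' p.2])
      rw [e]
      refine Lambda.prod_gamma_mem (P := PA) _ (fun p hp => ?_) ?_
      · obtain ⟨p, hp', rfl⟩ := List.mem_map.1 hp
        show PA.aug (g p.2) = 0
        rw [← haug, hg']
        exact hl p hp'
      · rwa [List.map_map]
    · rw [show g 0 = 0 from hf.1 (by rw [hg', map_zero])]
      exact zero_mem _
    · intro a b ha hb
      rw [show g (a + b) = g a + g b from hf.1 (by rw [hg', map_add, hg', hg'])]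
      exact add_mem ha hb
    · intro a ha
      rw [show g (-a) = -g a from hf.1 (by rw [hg', map_neg, hg'])]
      exact neg_mem ha
  · intro h
    refine Lambda.gammaFiltration_induction (motive := fun y => f y ∈ gammaFiltration PB n) hn h
      (fun l hl hsum => ?_) (by rw [map_zero]; exact zero_mem _) (fun a b ha hb => by rw [map_add]; exact add_mem ha hb)
      (fun a ha => by rw [map_neg]; exact neg_mem ha)
    have e : f (l.map fun p => gamma p.1 p.2).prod =
        ((l.map fun p => (p.1, f p.2)).map fun p => gamma p.1 p.2).prod := by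
      rw [map_list_prod, List.map_map, List.map_map]
      exact congrArg List.prod (List.map_congr_left fun p _ => by simp only [Function.comp_apply, map_gamma' f hlam])
    rw [e]
    refine Lambda.prod_gamma_mem (P := PB) _ (fun p hp => ?_) ?_
    · obtain ⟨p, hp', rfl⟩ := List.mem_map.1 hp
      show PB.aug (f p.2) = 0
      rw [haug]
      exact hl p hp'
    · rwa [List.map_map]

end Transfer

theorem rankHom_pullK {X Y : Scheme.{u}} [ConnectedSpace ↥X] [ConnectedSpace ↥Y] (f : X ⟶ Y) (x : SGA6.Kvb Y) :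
    SGA6Ext.rankHom X (SGA6Ext.pullK f x) = SGA6Ext.rankHom Y x :=
  DFunLike.congr_fun (SGA6Ext.hom_ext_cls (f := (SGA6Ext.rankHom X).comp (SGA6Ext.pullK f))
    (g := SGA6Ext.rankHom Y) fun A hA => by
      have hr := SGA6Ext.isRank (X := Y) hA
      rw [AddMonoidHom.comp_apply, SGA6Ext.pullK_cls f hA,
        SGA6Ext.rankHom_cls (DerPerf.isFinLocFree_pullback f hA), SGA6Ext.rankHom_cls hA,
        SGA6Ext.rank_of (Nagata.isFinLocFreeOfRank_pullback f hr)]) x

/-- The canonical model of the lambda-ring of bundles. -/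
theorem isModel_kvb (X : Scheme.{u}) [ConnectedSpace ↥X] :
    letI := SGA6Ext.kvbRing X
    letI := SGA6Ext.kvbLam X
    KRR.IsModel X (SGA6.Kvb X) (SGA6Ext.kvbPos X) (AddMonoidHom.id _) :=
  letI := SGA6Ext.kvbRing X
  letI := SGA6Ext.kvbLam X
  { bijective := Function.bijective_id
    map_one := rfl
    map_mul := fun _ _ hA hB => SGA6Ext.mulK_cls hA hB
    map_lam := fun i A L hA _ hAL => (SGA6Ext.lamK_spec X).2.2.2.2.1 i A L hA hAL
    aug_cl := fun k A h => (SGA6Ext.rankHom_cls (SGA6Ext.finLocFree_of_rank h)).trans (by rw [SGA6Ext.rank_of h])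
    mem_pos_iff := fun _ => Iff.rfl }

/-- The filtration on the bundles of a connected scheme. -/
def gFil (X : Scheme.{u}) [ConnectedSpace ↥X] (k : ℕ) : Set (SGA6.Kvb X) :=
  letI := SGA6Ext.kvbRing X
  letI := SGA6Ext.kvbLam X
  {x | x ∈ gammaFiltration (SGA6Ext.kvbPos X) k}

section Step

open Polynomial

variable {r : ℕ} {T : Scheme.{u}} (B : PBReg.Bun r T)

theorem mem_gFil_pullK [IsNoetherian T] [ConnectedSpace ↥T] [IsNoetherian B.P] [ConnectedSpace ↥B.P]
    (k : ℕ) (y : SGA6.Kvb T) : SGA6Ext.pullK B.π y ∈ gFil B.P k ↔ y ∈ gFil T k := by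
  letI := SGA6Ext.kvbRing T
  letI := SGA6Ext.kvbLam T
  letI := SGA6Ext.kvbRing B.P
  letI := SGA6Ext.kvbLam B.P
  let P := SGA6Ext.kvbPos T
  let PP := SGA6Ext.kvbPos B.P
  have hT := isModel_kvb T
  have hP := isModel_kvb B.P
  let e : SGA6.Kvb T := SGA6Ext.cls B.E
  let g := pullRing B.π
  have hg : KRR.IsPull B.π (AddMonoidHom.id _) (AddMonoidHom.id _) g.toAddMonoidHom := fun E hE =>
    SGA6Ext.pullK_cls B.π hE
  have hr : P.aug e = r + 1 := (hT.aug_cl (r + 1) B.E B.hE).trans (by push_cast; ring)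
  have he : e ∈ P.pos := (hT.mem_pos_iff e).2 ⟨r + 1, B.E, by omega, B.hE, rfl⟩
  let l : SGA6.Kvb B.P := SGA6Ext.cls B.O1
  have hrel := S3788.result T B.P r B.E B.hE B.π B.O1 B.q B.hB (SGA6.Kvb T) P _ hT (SGA6.Kvb B.P) PP _ hP _ hg
  have hbij := S3789.result T B.P r B.E B.hE B.π B.O1 B.q B.hB (SGA6.Kvb T) P _ hT (SGA6.Kvb B.P) PP _ hP _ hg
  have hrel' : (KRR.extPoly P e).eval₂ g l = 0 := by
    rw [KRRLam.extPoly_eq (P := P) hr, eval₂_finsetSum]
    refine (Finset.sum_congr rfl fun i _ => ?_).trans hrel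
    rw [eval₂_mul, eval₂_C, eval₂_X_pow, map_mul, map_pow, map_neg, map_one]
    rfl
  let Ψ : AdjoinRoot (KRR.extPoly P e) →+* SGA6.Kvb B.P := AdjoinRoot.lift g l hrel'
  have hΨof : ∀ x, Ψ (AdjoinRoot.of (KRR.extPoly P e) x) = g x := fun x => AdjoinRoot.lift_of hrel'
  have hΨroot : Ψ (AdjoinRoot.root (KRR.extPoly P e)) = l := AdjoinRoot.lift_root hrel'
  obtain ⟨hmon, hdeg⟩ : (KRR.extPoly P e).Monic ∧ (KRR.extPoly P e).natDegree ≤ r + 1 := by
    have e1 : KRR.extPoly P e = X ^ (r + 1) + ∑ i ∈ Finset.range (r + 1),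
        C ((-1 : SGA6.Kvb T) ^ (i + 1) * LambdaOps.lam (i + 1) e) * X ^ (r + 1 - (i + 1)) := by
      rw [KRRLam.extPoly_eq (P := P) hr, Finset.sum_range_succ', add_comm]
      simp [LambdaOps.lam_zero]
    have hlt : (∑ i ∈ Finset.range (r + 1),
        C ((-1 : SGA6.Kvb T) ^ (i + 1) * LambdaOps.lam (i + 1) e) * (X : (SGA6.Kvb T)[X]) ^ (r + 1 - (i + 1))).degree
          < ((r + 1 : ℕ) : WithBot ℕ) := by
      refine lt_of_le_of_lt (degree_sum_le _ _) ((Finset.sup_lt_iff (by exact_mod_cast WithBot.bot_lt_coe _)).2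
        fun i _ => lt_of_le_of_lt (degree_C_mul_X_pow_le _ _) ?_)
      exact_mod_cast (by omega : r + 1 - (i + 1) < r + 1)
    refine ⟨e1 ▸ monic_X_pow_add hlt, ?_⟩
    rw [e1]
    refine natDegree_le_iff_degree_le.2 ((degree_add_le _ _).trans (max_le (degree_X_pow_le _) hlt.le))
  haveI : Nontrivial (SGA6.Kvb T) := ⟨⟨0, 1, fun h => by simpa using congrArg P.aug h⟩⟩
  have hnd : (KRR.extPoly P e).natDegree = r + 1 := by
    refine le_antisymm hdeg (le_natDegree_of_ne_zero ?_)
    rw [KRRLam.extPoly_eq (P := P) hr, finsetSum_coeff, Finset.sum_eq_single 0]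
    · simp [LambdaOps.lam_zero]
    · intro i hi hi0
      rw [coeff_C_mul_X_pow, if_neg (by omega)]
    · simp
  have hlow : ∀ q : (SGA6.Kvb T)[X], q.natDegree < r + 1 → q.eval₂ g l = 0 → q = 0 := fun q hq h0 => by
    rw [eval₂_eq_sum_range' g hq, ← Fin.sum_univ_eq_sum_range (fun i => g (q.coeff i) * l ^ i)] at h0
    have := hbij.1 (a₁ := fun i : Fin (r + 1) => q.coeff i) (a₂ := 0) (h0.trans (by simp))
    ext i
    rcases Nat.lt_or_ge i (r + 1) with hi | hi
    · simpa using congrFun this ⟨i, hi⟩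
    · simpa using coeff_eq_zero_of_natDegree_lt (lt_of_lt_of_le hq hi)
  have hne1 : KRR.extPoly P e ≠ 1 := fun h => by rw [h, natDegree_one] at hnd; omega
  have hΨ : Function.Bijective Ψ := by
    refine ⟨(injective_iff_map_eq_zero _).2 fun x hx => ?_, fun x => ?_⟩
    · obtain ⟨q, rfl⟩ := AdjoinRoot.mk_surjective x
      have hq : AdjoinRoot.mk (KRR.extPoly P e) (q %ₘ KRR.extPoly P e) = AdjoinRoot.mk _ q := by
        rw [AdjoinRoot.mk_eq_mk]
        refine ⟨-(q /ₘ KRR.extPoly P e), ?_⟩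
        linear_combination modByMonic_add_div q (KRR.extPoly P e)
      rw [← hq] at hx ⊢
      rw [hlow _ ((natDegree_modByMonic_lt q hmon hne1).trans_le hdeg) (by rwa [← AdjoinRoot.lift_mk hrel']), map_zero]
    · obtain ⟨a, rfl⟩ := hbij.2 x
      refine ⟨∑ i : Fin (r + 1), AdjoinRoot.of _ (a i) * AdjoinRoot.root _ ^ (i : ℕ), ?_⟩
      rw [map_sum]
      exact Finset.sum_congr rfl fun i _ => by rw [map_mul, map_pow, hΨof, hΨroot]; rfl
  obtain ⟨ψ, hψ, hψ'⟩ := Function.bijective_iff_has_inverse.1 hΨ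
  let inst : LambdaOps (AdjoinRoot (KRR.extPoly P e)) :=
    { lam := fun i x => ψ (LambdaOps.lam i (Ψ x))
      lam_zero := fun x => hΨ.1 (by rw [hψ', LambdaOps.lam_zero, map_one])
      lam_one := fun x => by rw [LambdaOps.lam_one, hψ]
      lam_add := fun i x y => hΨ.1 (by
        rw [hψ', map_add, LambdaOps.lam_add, map_sum]
        exact Finset.sum_congr rfl fun j _ => by rw [map_mul, hψ', hψ']) }
  letI := inst
  have hlam : ∀ i x, Ψ (LambdaOps.lam i x) = LambdaOps.lam i (Ψ x) := fun i x => hψ' _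
  let Pe : PosStructure (AdjoinRoot (KRR.extPoly P e)) :=
    { aug := PP.aug.comp Ψ
      aug_surjective := fun z => ⟨(z : AdjoinRoot (KRR.extPoly P e)), map_intCast (PP.aug.comp Ψ) z⟩
      pos := {x | Ψ x ∈ PP.pos}
      add_mem := fun a b ha hb => by
        show Ψ (a + b) ∈ PP.pos
        rw [map_add]; exact PP.add_mem _ _ ha hb
      mul_mem := fun a b ha hb => by
        show Ψ (a * b) ∈ PP.pos
        rw [map_mul]; exact PP.mul_mem _ _ ha hb
      natCast_mem := fun n hn => by
        show Ψ n ∈ PP.pos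
        rw [map_natCast]; exact PP.natCast_mem n hn
      exists_sub := fun x => by
        obtain ⟨a, b, ha, hb, h⟩ := PP.exists_sub (Ψ x)
        exact ⟨ψ a, ψ b, show Ψ (ψ a) ∈ PP.pos by rwa [hψ'], show Ψ (ψ b) ∈ PP.pos by rwa [hψ'],
          hΨ.1 (by rw [map_sub, hψ', hψ', h])⟩
      aug_pos := fun a ha => PP.aug_pos _ ha
      lam_eq_zero := fun a ha i hi => hΨ.1 (by rw [hlam, map_zero]; exact PP.lam_eq_zero _ ha i hi)
      isUnit_lam := fun a ha => by
        obtain ⟨b, hb⟩ := (PP.isUnit_lam _ ha).exists_right_inv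
        exact IsUnit.of_mul_eq_one (ψ b) (hΨ.1 (by rw [map_mul, hlam, hψ', map_one]; exact hb)) }
  let φe : SGA6.Kvb B.P →+ AdjoinRoot (KRR.extPoly P e) :=
    AddMonoidHom.mk' ψ fun a b => hΨ.1 (by rw [hψ', map_add, hψ', hψ'])
  have hMe : KRR.IsModel B.P (AdjoinRoot (KRR.extPoly P e)) Pe φe :=
    { bijective := Function.bijective_iff_has_inverse.2 ⟨Ψ, hψ', hψ⟩
      map_one := hΨ.1 ((hψ' _).trans (hP.map_one.trans (map_one Ψ).symm))
      map_mul := fun A B hA hB => hΨ.1 (by
        show Ψ (ψ _ * ψ _) = Ψ (ψ _)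
        rw [map_mul, hψ', hψ', hψ']
        exact hP.map_mul A B hA hB)
      map_lam := fun i A L hA hL h => hΨ.1 (by
        show Ψ (LambdaOps.lam i (ψ _)) = Ψ (ψ _)
        rw [hlam, hψ', hψ']
        exact hP.map_lam i A L hA hL h)
      aug_cl := fun n A h => by
        show PP.aug (Ψ (ψ _)) = _
        rw [hψ']
        exact hP.aug_cl n A h
      mem_pos_iff := fun x => by
        show Ψ x ∈ PP.pos ↔ _
        rw [hP.mem_pos_iff]
        refine exists₂_congr fun n A => and_congr_right fun _ => and_congr_right fun _ => ?_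
        exact ⟨fun h => hΨ.1 ((hψ' _).trans h), fun h => by rw [← h]; exact (hψ' _).symm⟩ }
  have hext : IsExtension P Pe (AdjoinRoot.of (KRR.extPoly P e)) :=
    { isLambdaHom := fun i x => hΨ.1 (by rw [hlam, hΨof, hΨof]; exact pullK_lamK B.π i x)
      injective := fun a b h => Function.LeftInverse.injective (g := B.pushK)
        (fun x => PBReg.pushK_pullK (X := B) x) (by
          have h' := congrArg Ψ h
          rwa [hΨof, hΨof] at h')
      aug_comp := fun x => by
        show PP.aug (Ψ _) = _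
        rw [hΨof]
        exact rankHom_pullK B.π x
      pos_subset := fun a ha => by
        obtain ⟨n, A, hn, hA, rfl⟩ := (hT.mem_pos_iff a).1 ha
        show Ψ _ ∈ PP.pos
        rw [hΨof]
        exact (hP.mem_pos_iff _).2 ⟨n, _, hn, Nagata.isFinLocFreeOfRank_pullback B.π hA,
          (SGA6Ext.pullK_cls B.π (SGA6Ext.finLocFree_of_rank hA)).symm⟩ }
  have hline : Pe.IsLine (AdjoinRoot.root (KRR.extPoly P e)) := by
    refine ⟨show Ψ _ ∈ PP.pos from ?_, show PP.aug (Ψ _) = 1 from ?_⟩
    · rw [hΨroot]; exact (hP.mem_pos_iff _).2 ⟨1, B.O1, le_rfl, B.hB.invertible, rfl⟩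
    · rw [hΨroot]; exact (hP.aug_cl 1 B.O1 B.hB.invertible).trans Nat.cast_one
  have hS := KRRLam.ElemFil.gammaFiltration_eq (hasSplitting (SGA6.Kvb T) P _ hT) he hr hext hline
    (hasSplitting _ Pe φe hMe) k
  have key := mem_gammaFiltration_iff (PA := Pe) (PB := PP) Ψ hΨ hlam (fun x => rfl) k
    (AdjoinRoot.of (KRR.extPoly P e) y)
  rw [hΨof] at key
  refine Iff.trans key ⟨fun h => ?_, fun h => KRRLam.gammaFiltration_map hext h⟩
  rw [hS] at h
  obtain ⟨q, hq1, hq2, hq3⟩ := KRRLam.ElemFil.S_induction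
    (motive := fun x => ∃ q : (SGA6.Kvb T)[X], q.natDegree ≤ r ∧ AdjoinRoot.mk _ q = x ∧
      q.eval 1 ∈ gammaFiltration P k) h
    (fun i a hi ha => ⟨C a * (X - C 1) ^ i,
      (natDegree_C_mul_le _ _).trans (natDegree_pow_le.trans
        ((Nat.mul_le_mul_left i (natDegree_X_sub_C_le 1)).trans (by omega))),
      by simp [map_mul, map_pow, map_sub], by
        rcases i with _ | i
        · simpa using ha
        · simp⟩)
    ⟨0, by simp, map_zero _, by simp⟩
    (fun x y ⟨q, h1, h2, h3⟩ ⟨q', h1', h2', h3'⟩ => ⟨q + q', (natDegree_add_le _ _).trans (max_le h1 h1'),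
      by rw [map_add, h2, h2'], by rw [eval_add]; exact add_mem h3 h3'⟩)
  have hq : q - C y = 0 := hlow _ (by rw [natDegree_sub_C]; omega) (by
    rw [← AdjoinRoot.lift_mk hrel', map_sub, hq2, AdjoinRoot.mk_C, sub_self, map_zero])
  rw [sub_eq_zero.1 hq, eval_C] at hq3
  exact hq3

end Step

/-- A bundle becomes a sum of lines on a tower whose inverse image reflects the filtration. -/
theorem exists_split_fil :
    ∀ (m : ℕ) (T : Scheme.{u}) [IsNoetherian T] [ConnectedSpace ↥T] (E : T.Modules),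
      FlatMod.IsFinLocFreeOfRank m E →
      ∃ (T' : Scheme.{u}) (f : T' ⟶ T) (_ : IsNoetherian T') (_ : ConnectedSpace ↥T'),
        Function.Injective (SGA6Ext.pullK f) ∧ (∀ k x, SGA6Ext.pullK f x ∈ gFil T' k ↔ x ∈ gFil T k) ∧
        ∃ L : Fin m → T'.Modules, (∀ i, FlatMod.IsFinLocFreeOfRank 1 (L i)) ∧
          SGA6Ext.pullK f (SGA6Ext.cls E) = ∑ i, SGA6Ext.cls (L i) := by
  intro m
  induction m with
  | zero =>
    intro T _ _ E hE
    refine ⟨T, 𝟙 T, ‹_›, ‹_›, fun a b h => by rwa [pullK_id, pullK_id] at h, fun k x => by rw [pullK_id],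
      fun i => i.elim0, fun i => i.elim0, ?_⟩
    have hz := SGA6Ext.isZero_of_rank_zero hE
    have hf := DQCoh.isFinLocFree_of_isZero hz
    have h1 : (ShortComplex.mk (0 : E ⟶ E) (0 : E ⟶ E) zero_comp).ShortExact :=
      { exact := ShortComplex.exact_of_isZero_X₂ _ hz
        mono_f := ⟨fun _ _ _ => hz.eq_of_tgt _ _⟩
        epi_g := ⟨fun _ _ _ => hz.eq_of_src _ _⟩ }
    rw [pullK_id, Finset.univ_eq_empty, Finset.sum_empty]
    exact left_eq_add.1 (K0Res.clSub_add (fun M => FlatMod.IsFinLocFree M) h1 hf hf hf)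
  | succ m ih =>
    intro T hN hC E hE
    obtain ⟨P, p, O, q, hB, hp, -⟩ := CycPB.exists_projBundle hE
    let X : PBReg.Bun m T := ⟨P, p, E, hE, O, q, hB⟩
    obtain ⟨hNP, hCP⟩ : IsNoetherian P ∧ ConnectedSpace ↥P := stable_noeth X hp ⟨hN, hC⟩
    haveI := hB.epi
    have hpE := Nagata.isFinLocFreeOfRank_pullback p hE
    have hK := CycPB.isFinLocFreeOfRank_kernel q hpE (ZeroSch.isInvertible_of_rankOne hB.invertible)
    obtain ⟨T', f, hN', hC', hf, hfil, L, hL, hsum⟩ := ih P (kernel q) hK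
    have hinj : Function.Injective (SGA6Ext.pullK p) :=
      Function.LeftInverse.injective (g := X.pushK) fun x => PBReg.pushK_pullK (X := X) x
    refine ⟨T', f ≫ p, hN', hC', fun a b h => hinj (hf (by rwa [pullK_comp, pullK_comp] at h)),
      fun k x => by rw [pullK_comp, hfil]; exact mem_gFil_pullK X k x,
      Fin.cons ((Scheme.Modules.pullback f).obj O) L, ?_, ?_⟩
    · intro i
      refine Fin.cases ?_ (fun i => ?_) i
      · exact Nagata.isFinLocFreeOfRank_pullback f hB.invertible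
      · exact hL i
    · rw [pullK_comp, SGA6Ext.pullK_cls p (SGA6Ext.finLocFree_of_rank hE)]
      have hS : (ShortComplex.mk (kernel.ι q) q (kernel.condition q)).ShortExact := { exact := ShortComplex.exact_kernel q }
      have h : SGA6Ext.cls ((Scheme.Modules.pullback p).obj E) = SGA6Ext.cls (kernel q) + SGA6Ext.cls O :=
        K0Res.clSub_add (fun M => FlatMod.IsFinLocFree M) hS (SGA6Ext.finLocFree_of_rank hK)
          (SGA6Ext.finLocFree_of_rank hpE) (SGA6Ext.finLocFree_of_rank hB.invertible)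
      rw [h, map_add, hsum, SGA6Ext.pullK_cls f (SGA6Ext.finLocFree_of_rank hB.invertible), Fin.sum_univ_succ]
      simp only [Fin.cons_zero, Fin.cons_succ]
      exact add_comm _ _

/-- The splitting of a bundle in a model, compatibly with the γ-filtrations. -/
theorem exists_split_model (X : Scheme.{u}) [IsNoetherian X] [ConnectedSpace ↥X] (K : Type v) [CommRing K]
    [LambdaOps K] (P : PosStructure K) (φ : SGA6.Kvb X →+ K) (hK : KRR.IsModel X K P φ) (m : ℕ) (E : X.Modules)
    (hE : FlatMod.IsFinLocFreeOfRank m E) :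
    ∃ (X' : Scheme.{u}) (_ : IsNoetherian X') (_ : ConnectedSpace ↥X') (f : X' ⟶ X) (K' : Type (u + 1))
      (_ : CommRing K') (_ : LambdaOps K') (P' : PosStructure K') (φ' : SGA6.Kvb X' →+ K')
      (_ : KRR.IsModel X' K' P' φ') (g : K →+ K') (_ : KRR.IsPull f φ φ' g),
      Function.Injective g ∧ (∀ k : ℕ, (gammaFiltration P' k).comap g = gammaFiltration P k) ∧
      ∃ L : Fin m → X'.Modules, (∀ j, FlatMod.IsFinLocFreeOfRank 1 (L j)) ∧
        g (φ (KRR.cl X E)) = ∑ j, φ' (KRR.cl X' (L j)) := by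
  obtain ⟨X', f, hN, hC, hinj, hfil, L, hL, hsum⟩ := exists_split_fil m X E hE
  obtain ⟨ψ, hψ, hψ'⟩ := Function.bijective_iff_has_inverse.1 hK.bijective
  let ψh : K →+ SGA6.Kvb X := AddMonoidHom.mk' ψ fun a b => hK.bijective.1 (by rw [hψ', map_add, hψ', hψ'])
  refine ⟨X', hN, hC, f, SGA6.Kvb X', SGA6Ext.kvbRing X', SGA6Ext.kvbLam X', SGA6Ext.kvbPos X',
    AddMonoidHom.id _, isModel_kvb X', (SGA6Ext.pullK f).comp ψh, fun A hA => ?_, ?_, fun k => ?_, L, hL, ?_⟩
  · show SGA6Ext.pullK f (ψ (φ _)) = _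
    rw [hψ]
    exact SGA6Ext.pullK_cls f hA
  · exact fun a b h => hψ'.injective (hinj h)
  · ext x
    letI := SGA6Ext.kvbRing X
    letI := SGA6Ext.kvbLam X
    refine Iff.trans (hfil k (ψ x)) ?_
    conv_rhs => rw [← hψ' x]
    refine (mem_gammaFiltration_iff (PB := P) (ringOf φ hK.map_one hK.map_mul) hK.bijective
      (fun i y => map_lamK hK.map_one hK.map_mul hK.map_lam i y) (fun y => ?_) k (ψ x)).symm
    refine DFunLike.congr_fun (SGA6Ext.hom_ext_cls (f := P.aug.toAddMonoidHom.comp φ)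
      (g := SGA6Ext.rankHom X) fun A hA => ?_) y
    exact (hK.aug_cl _ A (SGA6Ext.isRank (X := X) hA)).trans (SGA6Ext.rankHom_cls hA).symm
  · show SGA6Ext.pullK f (ψ (φ _)) = _
    rw [hψ]
    exact hsum

end Groth.Agent.KSplit
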