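import Groth.Agent.KSplit.Tower

/-!
Models of the lambda-ring of bundles have the splitting property.
-/

set_option autoImplicit false
set_option linter.unusedSectionVars false
set_option linter.style.haveILetI false
set_option backward.isDefEq.respectTransparency false
set_option backward.isDefEq.respectTransparency.types false
set_option maxHeartbeats 1000000

universe v u

open CategoryTheory CategoryTheory.Limits AlgebraicGeometry TopologicalSpace Opposite
open LambdaRing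

noncomputable section

namespace Groth.Agent.KSplit

variable {T : Scheme.{u}} {K : Type v} [CommRing K] [LambdaOps K] {φ : SGA6.Kvb T →+ K}

theorem map_mulK (hmul : ∀ E F : T.Modules, FlatMod.IsFinLocFree E → FlatMod.IsFinLocFree F →
      φ (KRR.cl T E) * φ (KRR.cl T F) = φ (KRR.cl T (((DCoh.tensorBi (X := T)).obj E).obj F)))
    (x y : SGA6.Kvb T) : φ (SGA6Ext.mulK T x y) = φ x * φ y := by
  revert y
  refine SGA6Ext.cls_induction (C := fun x => ∀ y, φ (SGA6Ext.mulK T x y) = φ x * φ y) (fun y => by simp)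
    (fun x hx y => by simp [hx]) (fun x x' hx hx' y => by simp [hx, hx', add_mul]) (fun E hE => ?_) x
  intro y
  refine SGA6Ext.cls_induction (C := fun y => φ (SGA6Ext.mulK T (SGA6Ext.cls E) y) = φ (SGA6Ext.cls E) * φ y)
    (by simp) (fun y hy => by simp [hy]) (fun y y' hy hy' => by simp [hy, hy', mul_add]) (fun F hF => ?_) y
  rw [SGA6Ext.mulK_cls hE hF]
  exact (hmul E F hE hF).symm

variable (φ) in
/-- A model map, as a ring map. -/
def ringOf (h1 : φ (KRR.cl T (Coh.structureModule T)) = 1)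
    (hmul : ∀ E F : T.Modules, FlatMod.IsFinLocFree E → FlatMod.IsFinLocFree F →
      φ (KRR.cl T E) * φ (KRR.cl T F) = φ (KRR.cl T (((DCoh.tensorBi (X := T)).obj E).obj F))) :
    @RingHom (SGA6.Kvb T) K (SGA6Ext.kvbRing T).toNonAssocSemiring _ :=
  letI := SGA6Ext.kvbRing T
  { toFun := φ
    map_one' := h1
    map_mul' := map_mulK hmul
    map_zero' := map_zero φ
    map_add' := map_add φ }

theorem map_lamK (h1 : φ (KRR.cl T (Coh.structureModule T)) = 1)
    (hmul : ∀ E F : T.Modules, FlatMod.IsFinLocFree E → FlatMod.IsFinLocFree F →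
      φ (KRR.cl T E) * φ (KRR.cl T F) = φ (KRR.cl T (((DCoh.tensorBi (X := T)).obj E).obj F)))
    (hlam : ∀ (i : ℕ) (E L : T.Modules), FlatMod.IsFinLocFree E → FlatMod.IsFinLocFree L →
      ExtPow.IsExtPow i E L → LambdaOps.lam i (φ (KRR.cl T E)) = φ (KRR.cl T L))
    (i : ℕ) (x : SGA6.Kvb T) : φ (SGA6Ext.lamK T i x) = LambdaOps.lam i (φ x) := by
  letI := SGA6Ext.kvbRing T
  letI := SGA6Ext.kvbLam T
  suffices h : x ∈ lamComm (ringOf φ h1 hmul) from h i
  refine SGA6Ext.cls_induction (C := fun x => x ∈ lamComm (ringOf φ h1 hmul)) (zero_mem _) (fun x hx => neg_mem hx)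
    (fun x y hx hy => add_mem hx hy) (fun E hE => ?_) x
  intro j
  show φ (SGA6Ext.lamK T j (SGA6Ext.cls E)) = LambdaOps.lam j (φ (SGA6Ext.cls E))
  rw [SGA6Ext.lamK_cls j hE]
  exact (hlam j E _ hE (SGA6Ext.isFinLocFree_extSh E j hE) (SGA6Ext.isExtPow_extSh E j hE)).symm

theorem hasSplitting {X : Scheme.{u}} [IsNoetherian X] [ConnectedSpace ↥X] (K : Type (u + 1)) [CommRing K]
    [LambdaOps K] (P : PosStructure K) (φ : SGA6.Kvb X →+ K) (hK : KRR.IsModel X K P φ) : HasSplitting K P := by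
  refine ⟨{L | ∃ (T : Scheme.{u}) (ψ : SGA6.Kvb T →+ L.carrier), IsNoetherian T ∧ ConnectedSpace ↥T ∧
    KRR.IsModel T L.carrier L.posStr ψ}, ⟨X, φ, ‹_›, ‹_›, hK⟩, ?_⟩
  rintro L ⟨T, ψ, hN, hC, hL⟩ e he
  obtain ⟨m, E, -, hE, rfl⟩ := (hL.mem_pos_iff e).1 he
  obtain ⟨T', f, hT', hinj, F, hF, hsum⟩ := exists_split (Q := fun T => IsNoetherian T ∧ ConnectedSpace ↥T)
    stable_noeth (fun T h => @CompactSpace.mk _ _ (by haveI := h.1; exact isCompact_univ)) m T ⟨hN, hC⟩ E hE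
  obtain ⟨hN', hC'⟩ := hT'
  letI := SGA6Ext.kvbRing T'
  letI := SGA6Ext.kvbLam T'
  let L' : PosLambdaRing.{u + 1} := ⟨SGA6.Kvb T', SGA6Ext.kvbPos T'⟩
  have hM' : KRR.IsModel T' (SGA6.Kvb T') (SGA6Ext.kvbPos T') (AddMonoidHom.id _) :=
    { bijective := Function.bijective_id
      map_one := rfl
      map_mul := fun _ _ hA hB => SGA6Ext.mulK_cls hA hB
      map_lam := fun i A L hA _ hAL => (SGA6Ext.lamK_spec T').2.2.2.2.1 i A L hA hAL
      aug_cl := fun k A h => (SGA6Ext.rankHom_cls (SGA6Ext.finLocFree_of_rank h)).trans (by rw [SGA6Ext.rank_of h])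
      mem_pos_iff := fun _ => Iff.rfl }
  obtain ⟨ψ', hψ, hψ'⟩ := Function.bijective_iff_has_inverse.1 hL.bijective
  have gmul : ∀ x y, ψ' (x * y) = SGA6Ext.mulK T (ψ' x) (ψ' y) := fun x y =>
    hL.bijective.1 (by rw [map_mulK hL.map_mul, hψ', hψ', hψ'])
  let g : L.carrier →+* SGA6.Kvb T' :=
    { toFun := fun x => SGA6Ext.pullK f (ψ' x)
      map_one' := by
        rw [← hL.map_one, hψ]
        exact pullK_one f
      map_mul' := fun x y => by
        rw [gmul, pullK_mulK]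
        rfl
      map_zero' := by
        rw [show ψ' 0 = 0 from hL.bijective.1 (by rw [hψ', map_zero]), map_zero]
      map_add' := fun x y => by
        rw [show ψ' (x + y) = ψ' x + ψ' y from hL.bijective.1 (by rw [map_add, hψ', hψ', hψ']), map_add] }
  refine ⟨L', ⟨T', AddMonoidHom.id _, hN', hC', hM'⟩, g, ⟨fun i x => ?_, ?_, fun x => ?_, ?_⟩, ?_⟩
  · show SGA6Ext.pullK f (ψ' (LambdaOps.lam i x)) = SGA6Ext.lamK T' i (SGA6Ext.pullK f (ψ' x))
    rw [← pullK_lamK]
    refine congrArg _ (hL.bijective.1 ?_)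
    rw [map_lamK hL.map_one hL.map_mul hL.map_lam, hψ', hψ']
  · exact fun a b h => hψ'.injective (hinj h)
  · show SGA6Ext.rankHom T' (SGA6Ext.pullK f (ψ' x)) = L.posStr.aug x
    conv_rhs => rw [← hψ' x]
    refine DFunLike.congr_fun (SGA6Ext.hom_ext_cls (f := (SGA6Ext.rankHom T').comp (SGA6Ext.pullK f))
      (g := L.posStr.aug.toAddMonoidHom.comp ψ) fun A hA => ?_) (ψ' x)
    have hr := SGA6Ext.isRank (X := T) hA
    rw [AddMonoidHom.comp_apply, SGA6Ext.pullK_cls f hA,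
      SGA6Ext.rankHom_cls (DerPerf.isFinLocFree_pullback f hA),
      SGA6Ext.rank_of (Nagata.isFinLocFreeOfRank_pullback f hr)]
    exact (hL.aug_cl _ A hr).symm
  · intro x hx
    obtain ⟨k, A, hk, hA, rfl⟩ := (hL.mem_pos_iff x).1 hx
    refine ⟨k, _, hk, Nagata.isFinLocFreeOfRank_pullback f hA, ?_⟩
    show _ = SGA6Ext.pullK f (ψ' (ψ (KRR.cl T A)))
    rw [hψ]
    exact (SGA6Ext.pullK_cls f (SGA6Ext.finLocFree_of_rank hA)).symm
  · refine ⟨Finset.univ.val.map fun i => SGA6Ext.cls (F i), fun u hu => ?_, ?_⟩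
    · obtain ⟨i, -, rfl⟩ := Multiset.mem_map.1 hu
      refine ⟨⟨1, F i, le_rfl, hF i, rfl⟩, ?_⟩
      show SGA6Ext.rankHom T' (SGA6Ext.cls (F i)) = 1
      rw [SGA6Ext.rankHom_cls (SGA6Ext.finLocFree_of_rank (hF i)), SGA6Ext.rank_of (hF i), Nat.cast_one]
    · show (∑ i, SGA6Ext.cls (F i)) = SGA6Ext.pullK f (ψ' (ψ (KRR.cl T E)))
      rw [hψ]
      exact hsum.symm

end Groth.Agent.KSplit
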