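import Groth.Agent.KSplit.Gamma
import Groth.Agent.PBundle.Free
import Groth.Agent.ProjMor.ProjSpaceBase

/-!
The γ-filtration along a projective space over a connected Noetherian scheme.
-/

set_option autoImplicit false
set_option linter.unusedSectionVars false
set_option linter.style.haveILetI false
set_option backward.isDefEq.respectTransparency false
set_option backward.isDefEq.respectTransparency.types false
set_option maxHeartbeats 1000000

universe v u

open CategoryTheory CategoryTheory.Limits AlgebraicGeometry TopologicalSpace Opposite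
open LambdaRing

noncomputable section

namespace Groth.Agent.KSplit

theorem mem_model_iff {X : Scheme.{u}} [ConnectedSpace ↥X] {K : Type v} [CommRing K] [LambdaOps K]
    {P : PosStructure K} {φ : SGA6.Kvb X →+ K} (hK : KRR.IsModel X K P φ) (k : ℕ) (y : SGA6.Kvb X) :
    φ y ∈ gammaFiltration P k ↔ y ∈ gFil X k := by
  letI := SGA6Ext.kvbRing X
  letI := SGA6Ext.kvbLam X
  refine mem_gammaFiltration_iff (PB := P) (ringOf φ hK.map_one hK.map_mul) hK.bijective
    (fun i y => map_lamK hK.map_one hK.map_mul hK.map_lam i y) (fun y => ?_) k y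
  refine DFunLike.congr_fun (SGA6Ext.hom_ext_cls (f := P.aug.toAddMonoidHom.comp φ)
    (g := SGA6Ext.rankHom X) fun A hA => ?_) y
  exact (hK.aug_cl _ A (SGA6Ext.isRank (X := X) hA)).trans (SGA6Ext.rankHom_cls hA).symm

theorem comap_gammaFiltration {r : ℕ} {T : Scheme.{u}} (B : PBReg.Bun r T) [IsNoetherian T] [ConnectedSpace ↥T]
    [IsNoetherian B.P] [ConnectedSpace ↥B.P] {KP : Type v} [CommRing KP] [LambdaOps KP] {PP : PosStructure KP}
    {φP : SGA6.Kvb B.P →+ KP} (hKP : KRR.IsModel B.P KP PP φP) {KT : Type v} [CommRing KT] [LambdaOps KT]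
    {PT : PosStructure KT} {φT : SGA6.Kvb T →+ KT} (hKT : KRR.IsModel T KT PT φT) {q : KT →+ KP}
    (hq : KRR.IsPull B.π φT φP q) (k : ℕ) : (gammaFiltration PP k).comap q = gammaFiltration PT k := by
  ext x
  obtain ⟨y, rfl⟩ := hKT.bijective.2 x
  have e : q.comp φT = φP.comp (SGA6Ext.pullK B.π) := SGA6Ext.hom_ext_cls fun A hA => by
    rw [AddMonoidHom.comp_apply, AddMonoidHom.comp_apply, SGA6Ext.pullK_cls B.π hA]
    exact hq A hA
  rw [AddSubgroup.mem_comap, show q (φT y) = _ from DFunLike.congr_fun e y, AddMonoidHom.comp_apply,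
    mem_model_iff hKP, mem_model_iff hKT]
  exact mem_gFil_pullK B k y

theorem comap_gammaFiltration_PY (n : ℕ) {Y : Scheme.{u}} [IsNoetherian Y] [ConnectedSpace ↥Y] {KP : Type v}
    [CommRing KP] [LambdaOps KP] {PP : PosStructure KP} {φP : SGA6.Kvb (KRR.PY n Y) →+ KP}
    (hKP : KRR.IsModel (KRR.PY n Y) KP PP φP) {KY : Type v} [CommRing KY] [LambdaOps KY] {PY : PosStructure KY}
    {φY : SGA6.Kvb Y →+ KY} (hKY : KRR.IsModel Y KY PY φY) {q : KY →+ KP} (hq : KRR.IsPull (KRR.pr n Y) φY φP q)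
    (k : ℕ) : (gammaFiltration PP k).comap q = gammaFiltration PY k := by
  have hfree : FlatMod.IsFinLocFreeOfRank (n + 1) (FlatMod.freeMod Y (n + 1)) := fun _ =>
    ⟨⊤, trivial, ⟨(Scheme.Modules.restrictFunctorIsoPullback (⊤ : Y.Opens).ι).app _ ≪≫
      Groth.Agent.DerPerf.pullFreeIso (⊤ : Y.Opens).ι (n + 1)⟩⟩
  let B : PBReg.Bun n Y := ⟨KRR.PY n Y, KRR.pr n Y, FlatMod.freeMod Y (n + 1), hfree, Twist.twistOver n Y 1,
    PBundle.q0 n Y, PBundle.isProjBundle_free (n := n) (S := Y)⟩
  have hp : IsProper B.π := by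
    show IsProper (CohB1.ProjSpaceOver.toBase n Y)
    haveI := ProjMor.isProper_toSpec n (ULift.{u} ℤ)
    exact MorphismProperty.pullback_snd _ _ inferInstance
  obtain ⟨hN, hC⟩ : IsNoetherian B.P ∧ ConnectedSpace ↥B.P := stable_noeth B hp ⟨‹_›, ‹_›⟩
  exact comap_gammaFiltration B hKP hKY hq k

end Groth.Agent.KSplit
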