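import Groth.Agent.SGA6Ext.Model
import Groth.Agent.SGA6Ext.PullExt
import Groth.Agent.SGA6Ext.Pull

/-!
Inverse image is a homomorphism of lambda-rings of bundles.
-/

set_option autoImplicit false
set_option linter.unusedSectionVars false
set_option linter.style.haveILetI false
set_option backward.isDefEq.respectTransparency false
set_option backward.isDefEq.respectTransparency.types false
set_option maxHeartbeats 1000000

universe v w u

open CategoryTheory CategoryTheory.Limits AlgebraicGeometry TopologicalSpace Opposite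
open LambdaRing

noncomputable section

namespace Groth.Agent.KSplit

section Series

variable {A : Type v} {B : Type w} [CommRing A] [CommRing B] [LambdaOps A] [LambdaOps B]

theorem lamSeries_add (x y : A) : lamSeries (x + y) = lamSeries x * lamSeries y := by
  ext k
  rw [PowerSeries.coeff_mul, Finset.Nat.sum_antidiagonal_eq_sum_range_succ_mk]
  simp only [lamSeries, PowerSeries.coeff_mk]
  exact LambdaOps.lam_add k x y

theorem isUnit_lamSeries (x : A) : IsUnit (lamSeries x) := PowerSeries.isUnit_iff_constantCoeff.2 (by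
  rw [← PowerSeries.coeff_zero_eq_constantCoeff_apply, lamSeries, PowerSeries.coeff_mk, LambdaOps.lam_zero]
  exact isUnit_one)

theorem lamSeries_zero : lamSeries (0 : A) = 1 := by
  have h := lamSeries_add (0 : A) 0
  rw [add_zero] at h
  exact ((isUnit_lamSeries (0 : A)).mul_left_cancel ((mul_one _).trans h)).symm

/-- The subgroup of elements whose lambda operations commute with a ring map. -/
def lamComm (f : A →+* B) : AddSubgroup A where
  carrier := {x | ∀ i, f (LambdaOps.lam i x) = LambdaOps.lam i (f x)}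
  zero_mem' i := by
    rw [map_zero]
    have ha := congrArg (PowerSeries.coeff i) (lamSeries_zero (A := A))
    have hb := congrArg (PowerSeries.coeff i) (lamSeries_zero (A := B))
    simp only [lamSeries, PowerSeries.coeff_mk, PowerSeries.coeff_one] at ha hb
    rw [ha, hb]
    split_ifs <;> simp
  add_mem' {x y} hx hy i := by
    rw [LambdaOps.lam_add, map_sum, map_add, LambdaOps.lam_add]
    exact Finset.sum_congr rfl fun j _ => by rw [map_mul, hx, hy]
  neg_mem' {x} hx := by
    have hs : ∀ y : A, PowerSeries.map f (lamSeries y) = PowerSeries.mk fun i => f (LambdaOps.lam i y) := fun y => by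
      ext i; simp [lamSeries]
    have h1 : PowerSeries.map f (lamSeries x) * PowerSeries.map f (lamSeries (-x)) = 1 := by
      rw [← map_mul, ← lamSeries_add, add_neg_cancel, lamSeries_zero, map_one]
    have h2 : PowerSeries.map f (lamSeries x) = lamSeries (f x) := by
      ext i; simp [lamSeries, hx i]
    have h3 : lamSeries (f x) * lamSeries (f (-x)) = 1 := by
      rw [← lamSeries_add, map_neg, add_neg_cancel, lamSeries_zero]
    rw [h2] at h1
    have h4 := (isUnit_lamSeries (f x)).mul_left_cancel (h1.trans h3.symm)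
    intro i
    have h5 := congrArg (PowerSeries.coeff i) h4
    simpa [lamSeries] using h5

end Series

variable {X Y Z : Scheme.{u}} (f : X ⟶ Y)

theorem pullK_mulK (x y : SGA6.Kvb Y) :
    SGA6Ext.pullK f (SGA6Ext.mulK Y x y) = SGA6Ext.mulK X (SGA6Ext.pullK f x) (SGA6Ext.pullK f y) := by
  revert y
  refine SGA6Ext.cls_induction (C := fun x => ∀ y, SGA6Ext.pullK f (SGA6Ext.mulK Y x y) =
    SGA6Ext.mulK X (SGA6Ext.pullK f x) (SGA6Ext.pullK f y)) (fun y => by simp) (fun x hx y => by simp [hx])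
    (fun x x' hx hx' y => by simp [hx, hx']) (fun E hE => ?_) x
  intro y
  refine SGA6Ext.cls_induction (C := fun y => SGA6Ext.pullK f (SGA6Ext.mulK Y (SGA6Ext.cls E) y) =
    SGA6Ext.mulK X (SGA6Ext.pullK f (SGA6Ext.cls E)) (SGA6Ext.pullK f y)) (by simp) (fun y hy => by simp [hy])
    (fun y y' hy hy' => by simp [hy, hy']) (fun F hF => ?_) y
  rw [SGA6Ext.mulK_cls hE hF, SGA6Ext.pullK_cls f (SGA6Ext.isFinLocFree_tm hE hF), SGA6Ext.pullK_cls f hE,
    SGA6Ext.pullK_cls f hF, SGA6Ext.mulK_cls (DerPerf.isFinLocFree_pullback f hE) (DerPerf.isFinLocFree_pullback f hF)]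
  obtain ⟨e⟩ := TMul.nonempty_pullTensorIso f E F
  exact SGA6Ext.cls_iso e.symm (DerPerf.isFinLocFree_pullback f (SGA6Ext.isFinLocFree_tm hE hF))

theorem pullK_one : SGA6Ext.pullK f (SGA6Ext.oneK Y) = SGA6Ext.oneK X :=
  (SGA6Ext.pullK_cls f (SGA6Ext.finLocFree_unit Y)).trans
    (SGA6Ext.cls_iso (DerPerf.pullUnitIso f) (DerPerf.isFinLocFree_pullback f (SGA6Ext.finLocFree_unit Y)))

/-- Inverse image, as a ring map. -/
def pullRing : @RingHom (SGA6.Kvb Y) (SGA6.Kvb X) (SGA6Ext.kvbRing Y).toNonAssocSemiring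
    (SGA6Ext.kvbRing X).toNonAssocSemiring :=
  letI := SGA6Ext.kvbRing X
  letI := SGA6Ext.kvbRing Y
  { toFun := SGA6Ext.pullK f
    map_one' := pullK_one f
    map_mul' := pullK_mulK f
    map_zero' := map_zero (SGA6Ext.pullK f)
    map_add' := map_add (SGA6Ext.pullK f) }

theorem pullRing_apply (x : SGA6.Kvb Y) : pullRing f x = SGA6Ext.pullK f x := rfl

theorem pullK_lamK (i : ℕ) (x : SGA6.Kvb Y) :
    SGA6Ext.pullK f (SGA6Ext.lamK Y i x) = SGA6Ext.lamK X i (SGA6Ext.pullK f x) := by
  letI := SGA6Ext.kvbRing X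
  letI := SGA6Ext.kvbRing Y
  letI := SGA6Ext.kvbLam X
  letI := SGA6Ext.kvbLam Y
  suffices h : x ∈ lamComm (pullRing f) from h i
  refine SGA6Ext.cls_induction (C := fun x => x ∈ lamComm (pullRing f)) (zero_mem _) (fun x hx => neg_mem hx)
    (fun x y hx hy => add_mem hx hy) (fun E hE => ?_) x
  intro j
  show SGA6Ext.pullK f (SGA6Ext.lamK Y j (SGA6Ext.cls E)) = SGA6Ext.lamK X j (SGA6Ext.pullK f (SGA6Ext.cls E))
  rw [SGA6Ext.lamK_cls j hE, SGA6Ext.cls_pullback_extSh f hE, SGA6Ext.pullK_cls f hE,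
    SGA6Ext.lamK_cls j (DerPerf.isFinLocFree_pullback f hE)]

theorem pullK_comp (g : Y ⟶ Z) (x : SGA6.Kvb Z) :
    SGA6Ext.pullK (f ≫ g) x = SGA6Ext.pullK f (SGA6Ext.pullK g x) := by
  have e : SGA6Ext.pullK (f ≫ g) = (SGA6Ext.pullK f).comp (SGA6Ext.pullK g) := SGA6Ext.hom_ext_cls fun E hE => by
    rw [AddMonoidHom.comp_apply, SGA6Ext.pullK_cls g hE, SGA6Ext.pullK_cls (f ≫ g) hE,
      SGA6Ext.pullK_cls f (DerPerf.isFinLocFree_pullback g hE)]
    exact SGA6Ext.cls_iso ((Scheme.Modules.pullbackComp f g).app E).symm (DerPerf.isFinLocFree_pullback (f ≫ g) hE)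
  exact DFunLike.congr_fun e x

theorem pullK_id (x : SGA6.Kvb X) : SGA6Ext.pullK (𝟙 X) x = x := by
  have e : SGA6Ext.pullK (𝟙 X) = AddMonoidHom.id _ := SGA6Ext.hom_ext_cls fun E hE => by
    rw [SGA6Ext.pullK_cls (𝟙 X) hE]
    exact SGA6Ext.cls_iso ((Scheme.Modules.pullbackId X).app E) (DerPerf.isFinLocFree_pullback (𝟙 X) hE)
  exact DFunLike.congr_fun e x

end Groth.Agent.KSplit
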