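import Groth.Agent.KSplit.Tower
import Groth.Agent.LocFree.Summand

/-!
Bundles of rank at most one at every point, and splitting over quasi-compact schemes.
-/

set_option autoImplicit false
set_option linter.unusedSectionVars false
set_option linter.style.haveILetI false
set_option backward.isDefEq.respectTransparency false
set_option backward.isDefEq.respectTransparency.types false
set_option maxHeartbeats 1000000

universe u

open CategoryTheory CategoryTheory.Limits AlgebraicGeometry TopologicalSpace Opposite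
open Groth.Agent.QC (res resO res_res res_self res_smul app_res)
open Groth.Agent.LocFree (rk)

noncomputable section

namespace Groth.Agent.KSplit

variable {X : Scheme.{u}}

theorem isRankOfRk {M : X.Modules} (h : FlatMod.IsFinLocFree M) {n : ℕ} (hn : ∀ x, rk M x = n) :
    FlatMod.IsFinLocFreeOfRank n M := by
  refine W7Strat.isFinLocFreeOfRank_of_frames fun x => ?_
  obtain ⟨U, k, e, hx, he⟩ := TMul.exists_isFrame h x
  obtain rfl : k = n := (SGA6Ext.rk_of_frame he hx).symm.trans (hn x)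
  exact ⟨U, e, hx, he⟩

/-- The rank at a point is additive. -/
theorem rk_middle {S : ShortComplex X.Modules} (hS : S.ShortExact) (h₁ : FlatMod.IsFinLocFree S.X₁)
    (h₃ : FlatMod.IsFinLocFree S.X₃) (x : X) : rk S.X₂ x = rk S.X₁ x + rk S.X₃ x := by
  have h₂ := VBTwo.isFinLocFree_middle hS h₁ h₃
  obtain ⟨U₁, a, e, hx₁, he⟩ := TMul.exists_isFrame h₁ x
  obtain ⟨U₃, c, g, hx₃, hg⟩ := TMul.exists_isFrame h₃ x
  obtain ⟨V, hV, hxV, hle⟩ := exists_isAffineOpen_mem_and_subset (X := X) (x := x) (U := U₁ ⊓ U₃) ⟨hx₁, hx₃⟩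
  have hle₁ : V ≤ U₁ := (show V ≤ U₁ ⊓ U₃ from hle).trans inf_le_left
  have hle₃ : V ≤ U₃ := (show V ≤ U₁ ⊓ U₃ from hle).trans inf_le_right
  obtain ⟨s, hs⟩ := SGA6Ext.exists_section hS h₂ h₃ (V := V) ⟨hV, ⟨U₁, a, e, he, hle₁⟩, ⟨U₃, c, g, hg, hle₃⟩⟩
  have hbij : Function.Bijective ((SGA6Ext.secMap S.f V).coprod s) := by
    have hgf : ∀ m, SGA6Ext.secMap S.g V (SGA6Ext.secMap S.f V m) = 0 := fun m => LinearMap.congr_fun (SGA6Ext.comp_zero hS V) m
    have hgs : ∀ y, SGA6Ext.secMap S.g V (s y) = y := fun y => LinearMap.congr_fun hs y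
    refine ⟨fun p q hpq => ?_, fun m => ?_⟩
    · simp only [LinearMap.coprod_apply] at hpq
      have h2 : p.2 = q.2 := by
        have := congrArg (SGA6Ext.secMap S.g V) hpq
        rwa [map_add, map_add, hgf, hgf, hgs, hgs, zero_add, zero_add] at this
      rw [h2] at hpq
      exact Prod.ext (SGA6Ext.injective_f hS V (add_right_cancel hpq)) h2
    · obtain ⟨t, ht⟩ := SGA6Ext.ker_le hS V
        (show m - s (SGA6Ext.secMap S.g V m) ∈ LinearMap.ker (SGA6Ext.secMap S.g V) by
          rw [LinearMap.mem_ker, map_sub, hgs, sub_self])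
      exact ⟨(t, SGA6Ext.secMap S.g V m), by rw [LinearMap.coprod_apply, ht, sub_add_cancel]⟩
  let B : Module.Basis (Fin (a + c)) Γ(X, V) (SGA6Ext.Sec S.X₂ V) :=
    (((Module.Basis.ofEquivFun (he.equiv hle₁).symm : Module.Basis (Fin a) Γ(X, V) (SGA6Ext.Sec S.X₁ V)).prod
      (Module.Basis.ofEquivFun (hg.equiv hle₃).symm : Module.Basis (Fin c) Γ(X, V) (SGA6Ext.Sec S.X₃ V))).map
      (LinearEquiv.ofBijective _ hbij)).reindex finSumFinEquiv
  have hB : TMul.IsFrame (N := S.X₂) (U := V) fun i => (B i : Γ(S.X₂, V)) :=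
    PBundle.isFrame_of_bijective (LocFree.isQCoh_of_isFinLocFree h₂) hV (by
      rw [show (fun z => ∑ i, z i • (B i : Γ(S.X₂, V))) = B.equivFun.symm from funext fun z =>
        (Module.Basis.equivFun_symm_apply B z).symm]
      exact B.equivFun.symm.bijective)
  rw [SGA6Ext.rk_of_frame hB hxV, SGA6Ext.rk_of_frame he hx₁, SGA6Ext.rk_of_frame hg hx₃]

/-- A section module vanishing near a point forces rank zero there. -/
theorem rk_eq_zero {M : X.Modules} (hM : FlatMod.IsFinLocFree M) {U : X.Opens} {x : X} (hx : x ∈ U)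
    (h : ∀ V, V ≤ U → ∀ s : Γ(M, V), s = 0) : rk M x = 0 := by
  obtain ⟨W, k, e, hxW, he⟩ := TMul.exists_isFrame hM x
  rw [SGA6Ext.rk_of_frame he hxW]
  by_contra hk
  haveI : Nonempty ↥(W ⊓ U) := ⟨⟨x, hxW, hx⟩⟩
  have h0 : (fun _ => (1 : Γ(X, W ⊓ U))) = (fun _ : Fin k => (0 : Γ(X, W ⊓ U))) :=
    he.comb_injective inf_le_left ((h _ inf_le_right _).trans (h _ inf_le_right _).symm)
  exact one_ne_zero (congrFun h0 ⟨0, by omega⟩)

section Indicator

theorem exists_idempotent {U : Set X} (hU : IsClopen U) :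
    ∃ e : Γ(X, ⊤), resO X (le_top : (⟨U, hU.isOpen⟩ : X.Opens) ≤ ⊤) e = 1 ∧
      resO X (le_top : (⟨Uᶜ, hU.compl.isOpen⟩ : X.Opens) ≤ ⊤) e = 0 ∧ e * e = e := by
  let W : Bool → X.Opens := fun b => bif b then ⟨U, hU.isOpen⟩ else ⟨Uᶜ, hU.compl.isOpen⟩
  let sf : ∀ b, Γ(X, W b) := fun b => Bool.rec (motive := fun b => Γ(X, W b)) 0 1 b
  have hsub : ∀ b c, b ≠ c → Subsingleton Γ(X, W b ⊓ W c) := fun b c h => by
    have h0 : W b ⊓ W c = ⊥ := by
      apply Opens.ext
      cases b <;> cases c <;> simp [W] at h ⊢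
    rw [h0]
    exact CommRingCat.subsingleton_of_isTerminal X.sheaf.isTerminalOfEmpty
  have hcompat : ∀ b c, resO X (inf_le_left : W b ⊓ W c ≤ W b) (sf b) =
      resO X (inf_le_right : W b ⊓ W c ≤ W c) (sf c) := fun b c => by
    by_cases h : b = c
    · subst h; rfl
    · haveI := hsub b c h
      exact Subsingleton.elim _ _
  have hcover : (⊤ : X.Opens) ≤ ⨆ b, W b := fun y _ => by
    by_cases hy : y ∈ U
    · exact Opens.mem_iSup.2 ⟨true, hy⟩
    · exact Opens.mem_iSup.2 ⟨false, hy⟩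
  obtain ⟨e, he, huniq⟩ := X.sheaf.existsUnique_gluing' W ⊤ (fun b => homOfLE le_top) hcover sf hcompat
  refine ⟨e, he true, he false, huniq _ fun b => ?_⟩
  have hb : resO X (le_top : W b ≤ ⊤) e = sf b := he b
  show resO X (le_top : W b ≤ ⊤) (e * e) = sf b
  rw [map_mul, hb]
  cases b
  · exact zero_mul 0
  · exact one_mul 1

/-- Multiplication by a global function on the structure module. -/
def mulBy (a : Γ(X, ⊤)) : Coh.structureModule X ⟶ Coh.structureModule X := TMul.homOf (L := Coh.structureModule X) a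

theorem mulBy_app (a : Γ(X, ⊤)) (V : X.Opens) (s : Γ(X, V)) :
    (mulBy a).app V s = s * resO X le_top a := by
  refine (TMul.app_eq_smul _ _).trans ?_
  show s * _ = _
  rw [mulBy, TMul.val_homOf]
  rfl

/-- Bundles that are one on a clopen set and zero off it. -/
theorem exists_indicator {U : Set X} (hU : IsClopen U) :
    ∃ L : X.Modules, FlatMod.IsFinLocFree L ∧ (∀ x ∈ U, rk L x = 1) ∧ ∀ x ∉ U, rk L x = 0 := by
  obtain ⟨e, heU, heV, hee⟩ := exists_idempotent hU
  have hb : ∀ a : Γ(X, ⊤), a * a = a → FlatMod.IsFinLocFree (kernel (mulBy a)) := fun a ha => by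
    have h1 : mulBy (1 - a) ≫ mulBy a = 0 := by
      refine Scheme.Modules.hom_ext _ _ fun V => ?_
      ext s
      show (mulBy a).app V ((mulBy (1 - a)).app V s) = (0 : Γ(X, V))
      rw [mulBy_app, mulBy_app, mul_assoc, ← map_mul, show (1 - a) * a = 0 by rw [sub_mul, one_mul, ha, sub_self],
        map_zero, mul_zero]
    let r : Coh.structureModule X ⟶ kernel (mulBy a) := kernel.lift _ (mulBy (1 - a)) h1
    have h2 : kernel.ι (mulBy a) ≫ r = 𝟙 _ := by
      rw [← cancel_mono (kernel.ι (mulBy a)), Category.assoc, kernel.lift_ι, Category.id_comp]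
      refine Scheme.Modules.hom_ext _ _ fun V => ?_
      ext s
      have hz : (mulBy a).app V ((kernel.ι (mulBy a)).app V s) = 0 :=
        congrArg (fun f : kernel (mulBy a) ⟶ Coh.structureModule X => f.app V s) (kernel.condition (mulBy a))
      show (mulBy (1 - a)).app V ((kernel.ι (mulBy a)).app V s) = (kernel.ι (mulBy a)).app V s
      rw [mulBy_app] at hz ⊢
      rw [map_sub, map_one, mul_sub, mul_one]
      exact sub_eq_self.2 hz
    let ι : FlatMod.freeMod X 1 ≅ Coh.structureModule X :=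
      coproductUniqueIso fun _ : Fin 1 => Coh.structureModule X
    exact LocFree.isFinLocFree_of_retract _ 1 (kernel.ι (mulBy a) ≫ ι.inv) (ι.hom ≫ r) (by simp [h2])
  have hL := hb (1 - e) (by rw [mul_sub, mul_one, sub_mul, one_mul, hee, sub_self, sub_zero])
  have hL' := hb e hee
  have hvan : ∀ (a : Γ(X, ⊤)) (W : X.Opens), resO X (le_top : W ≤ ⊤) a = 1 → ∀ V, V ≤ W →
      ∀ s : Γ(kernel (mulBy a), V), s = 0 := fun a W ha V hV s => by
    refine ZCl.injective_of_mono (kernel.ι (mulBy a)) V ?_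
    rw [map_zero]
    have hz : (mulBy a).app V ((kernel.ι (mulBy a)).app V s) = 0 :=
      congrArg (fun f : kernel (mulBy a) ⟶ Coh.structureModule X => f.app V s) (kernel.condition (mulBy a))
    rw [mulBy_app] at hz
    have e1 : resO X (le_top : V ≤ ⊤) a = 1 := by
      rw [show resO X (le_top : V ≤ ⊤) a = resO X hV (resO X (le_top : W ≤ ⊤) a) from
        (Groth.Agent.QC.resO_resO hV le_top a).symm, ha, map_one]
    rwa [e1, mul_one] at hz
  have hsum : ∀ x, rk (kernel (mulBy (1 - e))) x + rk (kernel (mulBy e)) x = 1 := fun x => by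
    haveI : Subsingleton (Fin 1) := inferInstance
    let i := kernel.ι (mulBy (1 - e))
    have h1 : mulBy (1 - (1 - e)) ≫ mulBy (1 - e) = 0 := by
      refine Scheme.Modules.hom_ext _ _ fun V => ?_
      ext s
      show (mulBy (1 - e)).app V ((mulBy (1 - (1 - e))).app V s) = (0 : Γ(X, V))
      rw [sub_sub_cancel, mulBy_app, mulBy_app, mul_assoc, ← map_mul,
        show e * (1 - e) = 0 by rw [mul_sub, mul_one, hee, sub_self], map_zero, mul_zero]
    have h2 : mulBy (1 - e) ≫ mulBy e = 0 := by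
      refine Scheme.Modules.hom_ext _ _ fun V => ?_
      ext s
      show (mulBy e).app V ((mulBy (1 - e)).app V s) = (0 : Γ(X, V))
      rw [mulBy_app, mulBy_app, mul_assoc, ← map_mul,
        show (1 - e) * e = 0 by rw [sub_mul, one_mul, hee, sub_self], map_zero, mul_zero]
    let g := kernel.lift (mulBy e) (mulBy (1 - e)) h2
    have hig : i ≫ g = 0 := by
      rw [← cancel_mono (kernel.ι (mulBy e)), Category.assoc, kernel.lift_ι, zero_comp]
      exact kernel.condition _
    have hsp : (ShortComplex.mk i g hig).ShortExact := by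
      refine ShortComplex.Splitting.shortExact
        { r := kernel.lift _ (mulBy (1 - (1 - e))) h1
          s := kernel.ι (mulBy e)
          f_r := ?_
          s_g := ?_
          id := ?_ }
      · rw [← cancel_mono (kernel.ι (mulBy (1 - e))), Category.assoc, kernel.lift_ι, Category.id_comp]
        refine Scheme.Modules.hom_ext _ _ fun V => ?_
        ext s
        have hz : (mulBy (1 - e)).app V ((kernel.ι (mulBy (1 - e))).app V s) = 0 :=
          congrArg (fun f : kernel (mulBy (1 - e)) ⟶ Coh.structureModule X => f.app V s) (kernel.condition _)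
        show (mulBy (1 - (1 - e))).app V ((kernel.ι (mulBy (1 - e))).app V s) = (kernel.ι (mulBy (1 - e))).app V s
        rw [mulBy_app] at hz ⊢
        rw [map_sub, map_one, mul_sub, mul_one]
        exact sub_eq_self.2 hz
      · rw [← cancel_mono (kernel.ι (mulBy e)), Category.assoc, kernel.lift_ι, Category.id_comp]
        refine Scheme.Modules.hom_ext _ _ fun V => ?_
        ext s
        have hz : (mulBy e).app V ((kernel.ι (mulBy e)).app V s) = 0 :=
          congrArg (fun f : kernel (mulBy e) ⟶ Coh.structureModule X => f.app V s) (kernel.condition _)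
        show (mulBy (1 - e)).app V ((kernel.ι (mulBy e)).app V s) = (kernel.ι (mulBy e)).app V s
        rw [mulBy_app] at hz ⊢
        rw [map_sub, map_one, mul_sub, mul_one]
        exact sub_eq_self.2 hz
      · rw [kernel.lift_ι, kernel.lift_ι]
        refine Scheme.Modules.hom_ext _ _ fun V => ?_
        ext s
        show (mulBy (1 - (1 - e))).app V s + (mulBy (1 - e)).app V s = s
        rw [mulBy_app, mulBy_app, sub_sub_cancel]
        have key : ∀ t : Γ(X, V), t * resO X le_top e + t * resO X le_top (1 - e) = t := fun t => by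
          rw [← mul_add, ← map_add, add_sub_cancel, map_one, mul_one]
        exact key s
    rw [← rk_middle hsp hL hL' x]
    exact SGA6Ext.rk_of_rank SGA6Ext.isRank_unit x
  refine ⟨kernel (mulBy (1 - e)), hL, fun x hx => ?_, fun x hx => ?_⟩
  · have h0 := rk_eq_zero hL' (U := ⟨U, hU.isOpen⟩) hx (hvan e _ heU)
    have := hsum x
    omega
  · exact rk_eq_zero hL (U := ⟨Uᶜ, hU.compl.isOpen⟩) hx (hvan (1 - e) _ (by rw [map_sub, map_one, heV, sub_zero]))

end Indicator

/-- Finite locally free, of rank at most one at every point. -/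
def Small (L : X.Modules) : Prop := FlatMod.IsFinLocFree L ∧ ∀ x, rk L x ≤ 1

theorem small_of_rank {L : X.Modules} (h : FlatMod.IsFinLocFreeOfRank 1 L) : Small L :=
  ⟨SGA6Ext.finLocFree_of_rank h, fun x => (SGA6Ext.rk_of_rank h x).le⟩

theorem small_tm {A B : X.Modules} (hA : Small A) (hB : Small B) : Small (CohB1.tensorMod A B) := by
  refine ⟨SGA6Ext.isFinLocFree_tm hA.1 hB.1, fun x => ?_⟩
  obtain ⟨U, a, e, hx, he⟩ := TMul.exists_isFrame hA.1 x
  obtain ⟨V, b, f, hy, hf⟩ := TMul.exists_isFrame hB.1 x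
  obtain ⟨g, hg⟩ := SGA6Ext.exists_frame_tm (W7Strat.isFrame_res he (inf_le_left : U ⊓ V ≤ U))
    (W7Strat.isFrame_res hf (inf_le_right : U ⊓ V ≤ V))
  rw [SGA6Ext.rk_of_frame hg ⟨hx, hy⟩, ← SGA6Ext.rk_of_frame he hx, ← SGA6Ext.rk_of_frame hf hy]
  exact Nat.mul_le_mul (hA.2 x) (hB.2 x)

theorem small_pullback {Y : Scheme.{u}} (f : X ⟶ Y) {L : Y.Modules} (hL : Small L) :
    Small ((Scheme.Modules.pullback f).obj L) := by
  refine ⟨DerPerf.isFinLocFree_pullback f hL.1, fun x => ?_⟩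
  obtain ⟨U, a, e, hx, he⟩ := TMul.exists_isFrame hL.1 (f.base x)
  rw [SGA6Ext.rk_of_frame (TMul.IsFrame.pullback f he) hx, ← SGA6Ext.rk_of_frame he hx]
  exact hL.2 _

theorem lamK_small {L : X.Modules} (hL : Small L) {i : ℕ} (hi : 2 ≤ i) :
    SGA6Ext.lamK X i (SGA6Ext.cls L) = 0 := by
  rw [SGA6Ext.lamK_cls i hL.1]
  have hF := SGA6Ext.isFinLocFree_extSh L i hL.1
  have h0 : FlatMod.IsFinLocFreeOfRank 0 (SGA6Ext.extSh L i) := isRankOfRk hF fun x => by
    obtain ⟨U, n, e, hx, he⟩ := TMul.exists_isFrame hL.1 x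
    obtain ⟨f, hf⟩ := SGA6Ext.exists_frame_extSh L i he
    have := hL.2 x
    rw [SGA6Ext.rk_of_frame he hx] at this
    rw [SGA6Ext.rk_of_frame hf hx]
    exact Nat.choose_eq_zero_of_lt (by omega)
  have hz := SGA6Ext.isZero_of_rank_zero h0
  have h1 : (ShortComplex.mk (0 : SGA6Ext.extSh L i ⟶ SGA6Ext.extSh L i) (0 : SGA6Ext.extSh L i ⟶ SGA6Ext.extSh L i)
      zero_comp).ShortExact :=
    { exact := ShortComplex.exact_of_isZero_X₂ _ hz
      mono_f := ⟨fun _ _ _ => hz.eq_of_tgt _ _⟩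
      epi_g := ⟨fun _ _ _ => hz.eq_of_src _ _⟩ }
  exact left_eq_add.1 (K0Res.clSub_add (fun M : X.Modules => FlatMod.IsFinLocFree M) h1 hF hF hF)

variable (X) in
/-- The classes of small bundles. -/
def SmSet : Set (SGA6.Kvb X) := {x | ∃ L : X.Modules, Small L ∧ SGA6Ext.cls L = x}

variable (X) in
/-- Combinations of classes of small bundles. -/
def Vt : AddSubgroup (SGA6.Kvb X) := AddSubgroup.closure (SmSet X)

theorem pullK_mem_Vt {Y : Scheme.{u}} (f : X ⟶ Y) {x : SGA6.Kvb Y} (hx : x ∈ Vt Y) :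
    SGA6Ext.pullK f x ∈ Vt X := by
  have h : Vt Y ≤ (Vt X).comap (SGA6Ext.pullK f) := (AddSubgroup.closure_le _).2 fun y ⟨L, hL, e⟩ =>
    AddSubgroup.subset_closure ⟨_, small_pullback f hL, by rw [← e, SGA6Ext.pullK_cls f hL.1]⟩
  exact h hx

/-- A bundle of bounded rank is completed to constant rank by small bundles. -/
theorem exists_complement {E : X.Modules} (hE : FlatMod.IsFinLocFree E) :
    ∀ k : ℕ, ∃ G : X.Modules, FlatMod.IsFinLocFree G ∧ SGA6Ext.cls G ∈ Vt X ∧ ∀ x, rk G x = k - rk E x := by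
  intro k
  induction k with
  | zero =>
    obtain ⟨L, hL, -, h0⟩ := exists_indicator (X := X) isClopen_empty
    exact ⟨L, hL, AddSubgroup.subset_closure ⟨L, ⟨hL, fun x => by rw [h0 x (Set.notMem_empty x)]; omega⟩, rfl⟩,
      fun x => by rw [h0 x (Set.notMem_empty x), Nat.zero_sub]⟩
  | succ k ih =>
    obtain ⟨G, hG, hGV, hGr⟩ := ih
    have hU : IsClopen {x : X | rk E x ≤ k} :=
      ⟨⟨(LocFree.isLocallyConstant_rk hE) (Set.Iic k)ᶜ⟩, (LocFree.isLocallyConstant_rk hE) (Set.Iic k)⟩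
    obtain ⟨L, hL, hL1, hL0⟩ := exists_indicator hU
    have hLs : Small L := ⟨hL, fun x => by
      by_cases h : rk E x ≤ k
      · rw [hL1 x h]
      · rw [hL0 x h]; omega⟩
    obtain ⟨S, e1, e2, e3, hS⟩ : ∃ S : ShortComplex X.Modules, S.X₁ = G ∧ S.X₂ = (G ⊞ L) ∧ S.X₃ = L ∧ S.ShortExact :=
      ⟨ShortComplex.mk (biprod.inl : G ⟶ G ⊞ L) (biprod.snd : G ⊞ L ⟶ L) biprod.inl_snd, rfl, rfl, rfl,
        (ShortComplex.Splitting.ofHasBinaryBiproduct G L).shortExact⟩
    generalize (G ⊞ L : X.Modules) = M at e2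
    subst e1 e2 e3
    have h2 : FlatMod.IsFinLocFree S.X₂ := VBTwo.isFinLocFree_middle hS hG hL
    refine ⟨S.X₂, h2, ?_, fun x => ?_⟩
    · rw [show SGA6Ext.cls S.X₂ = SGA6Ext.cls S.X₁ + SGA6Ext.cls S.X₃ from
        K0Res.clSub_add (fun M : X.Modules => FlatMod.IsFinLocFree M) hS hG h2 hL]
      exact add_mem hGV (AddSubgroup.subset_closure ⟨_, hLs, rfl⟩)
    · rw [rk_middle hS hG hL x, hGr x]
      by_cases h : rk E x ≤ k
      · rw [hL1 x h]; omega
      · rw [hL0 x h]; omega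

/-- Every class becomes a combination of small bundles after a projective tower. -/
theorem exists_small {S : Scheme.{u}} (x : SGA6.Kvb S) :
    ∀ (T : Scheme.{u}), CompactSpace ↥T → ∀ g : T ⟶ S, ∃ (T' : Scheme.{u}) (f : T' ⟶ T),
      CompactSpace ↥T' ∧ Function.Injective (SGA6Ext.pullK f) ∧ SGA6Ext.pullK f (SGA6Ext.pullK g x) ∈ Vt T' := by
  refine SGA6Ext.cls_induction (C := fun x => ∀ (T : Scheme.{u}), CompactSpace ↥T → ∀ g : T ⟶ S,
    ∃ (T' : Scheme.{u}) (f : T' ⟶ T), CompactSpace ↥T' ∧ Function.Injective (SGA6Ext.pullK f) ∧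
      SGA6Ext.pullK f (SGA6Ext.pullK g x) ∈ Vt T') ?_ ?_ ?_ ?_ x
  · intro T hT g
    exact ⟨T, 𝟙 T, hT, fun a b h => by rwa [pullK_id, pullK_id] at h, by rw [map_zero, map_zero]; exact zero_mem _⟩
  · intro x hx T hT g
    obtain ⟨T', f, h1, h2, h3⟩ := hx T hT g
    exact ⟨T', f, h1, h2, by rw [map_neg, map_neg]; exact neg_mem h3⟩
  · intro x y hx hy T hT g
    obtain ⟨T', f, h1, h2, h3⟩ := hx T hT g
    obtain ⟨T'', f', h1', h2', h3'⟩ := hy T' h1 (f ≫ g)
    refine ⟨T'', f' ≫ f, h1', fun a b h => h2 (h2' (by rwa [pullK_comp, pullK_comp] at h)), ?_⟩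
    rw [pullK_comp] at h3'
    rw [pullK_comp, map_add, map_add, map_add]
    exact add_mem (pullK_mem_Vt f' h3) h3'
  · intro E hE T hT g
    have hE' := DerPerf.isFinLocFree_pullback g hE
    obtain ⟨R, hR⟩ : ∃ R, ∀ t, rk ((Scheme.Modules.pullback g).obj E) t ≤ R := by
      obtain ⟨R, hR⟩ := (LocFree.isLocallyConstant_rk hE').range_finite.bddAbove
      exact ⟨R, fun t => hR ⟨t, rfl⟩⟩
    obtain ⟨G, hG, hGV, hGr⟩ := exists_complement hE' R
    obtain ⟨W, e1, e2, e3, hS⟩ : ∃ W : ShortComplex T.Modules, W.X₁ = (Scheme.Modules.pullback g).obj E ∧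
        W.X₂ = ((Scheme.Modules.pullback g).obj E ⊞ G) ∧ W.X₃ = G ∧ W.ShortExact :=
      ⟨ShortComplex.mk biprod.inl (biprod.snd : (Scheme.Modules.pullback g).obj E ⊞ G ⟶ G) biprod.inl_snd,
        rfl, rfl, rfl, (ShortComplex.Splitting.ofHasBinaryBiproduct _ G).shortExact⟩
    rw [← e1] at hE' hR hGr
    subst e3
    have h2 : FlatMod.IsFinLocFree W.X₂ := VBTwo.isFinLocFree_middle hS hE' hG
    have hrank : FlatMod.IsFinLocFreeOfRank R W.X₂ := isRankOfRk h2 fun t => by
      rw [rk_middle hS hE' hG t, hGr t]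
      have := hR t
      omega
    obtain ⟨T', f, hT', hf, L, hL, hsum⟩ := exists_split stable_compact (fun _ h => h) R T hT W.X₂ hrank
    refine ⟨T', f, hT', hf, ?_⟩
    rw [SGA6Ext.pullK_cls g hE, ← e1]
    have he : SGA6Ext.cls W.X₁ = SGA6Ext.cls W.X₂ - SGA6Ext.cls W.X₃ :=
      eq_sub_of_add_eq (K0Res.clSub_add (fun M : T.Modules => FlatMod.IsFinLocFree M) hS hE' h2 hG).symm
    rw [he, map_sub]
    refine sub_mem ?_ (pullK_mem_Vt f hGV)
    rw [hsum]
    exact sum_mem fun i _ => AddSubgroup.subset_closure ⟨L i, small_of_rank (hL i), rfl⟩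

end Groth.Agent.KSplit
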