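import Groth.Agent.Lambda.Universal
import Groth.Agent.KRRLam.ElemExt
import Groth.Agent.KSplit.Pull

/-!
Lambda-rings generated by elements of rank at most one are special.
-/

set_option autoImplicit false
set_option linter.unusedSectionVars false
set_option linter.style.haveILetI false
set_option backward.isDefEq.respectTransparency false
set_option backward.isDefEq.respectTransparency.types false
set_option maxHeartbeats 1000000

universe v w u

open LambdaRing
open Groth.Agent.KRRLam.ElemExt (ls ls_single mapMA mapMA_single ls_map mapU)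

noncomputable section

namespace Groth.Agent.KSplit

section Series

variable {M : Type*} [CommMonoid M] {A : Type*} [CommRing A]

/-- The series of a combination of elements of rank one. -/
def lsM (ι : M →* A) : MonoidAlgebra ℤ M →+ Additive (PowerSeries A)ˣ :=
  (ls (A := A)).comp (MonoidAlgebra.mapDomainRingHom ℤ ι).toAddMonoidHom

/-- The coefficients of `lsM`. -/
def cs (ι : M →* A) (z : MonoidAlgebra ℤ M) (n : ℕ) : A :=
  PowerSeries.coeff n (Units.val (α := PowerSeries A) (Additive.toMul (lsM ι z)))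

theorem cs_zero (ι : M →* A) (z : MonoidAlgebra ℤ M) : cs ι z 0 = 1 := by
  rw [cs, PowerSeries.coeff_zero_eq_constantCoeff_apply]
  exact KRRLam.ElemExt.constantCoeff_ls _

theorem cs_add (ι : M →* A) (z z' : MonoidAlgebra ℤ M) :
    cs ι (z + z') = Lambda.conv (cs ι z) (cs ι z') := by
  funext n
  rw [cs, map_add, toMul_add, Units.val_mul, PowerSeries.coeff_mul,
    Finset.Nat.sum_antidiagonal_eq_sum_range_succ_mk]
  rfl

theorem lsM_single (ι : M →* A) (m : M) (n : ℤ) :
    lsM ι (MonoidAlgebra.single m n) = n • Additive.ofMul (KRRLam.ElemExt.lineUnit (ι m)) := by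
  show ls (MonoidAlgebra.mapDomain (⇑ι) (MonoidAlgebra.single m n)) = _
  rw [MonoidAlgebra.mapDomain_single, ls_single]

/-- The power sums, as ring maps. -/
def pw (ι : M →* A) (k : ℕ) : MonoidAlgebra ℤ M →+* A :=
  (MonoidAlgebra.lift ℤ A M ((powMonoidHom k).comp ι)).toRingHom

theorem pw_single (ι : M →* A) (k : ℕ) (m : M) (n : ℤ) :
    pw ι k (MonoidAlgebra.single m n) = n • (ι m ^ k) :=
  MonoidAlgebra.lift_single _ _ _

theorem N_cs (ι : M →* A) {k : ℕ} (hk : 1 ≤ k) (z : MonoidAlgebra ℤ M) :
    Lambda.N (cs ι z) k = pw ι k z := by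
  let Φ : MonoidAlgebra ℤ M →+ A := AddMonoidHom.mk' (fun z => Lambda.N (cs ι z) k) fun z z' => by
    rw [cs_add, Lambda.N_conv (cs_zero ι z) (cs_zero ι z') hk]
  suffices h : Φ = (pw ι k).toAddMonoidHom from DFunLike.congr_fun h z
  refine AddMonoidHom.ext fun z => ?_
  induction z using MonoidAlgebra.induction_linear with
  | zero => rw [map_zero, map_zero]
  | add a b ha hb => rw [map_add, map_add, ha, hb]
  | single m n =>
    rw [show MonoidAlgebra.single m n = n • MonoidAlgebra.single m (1 : ℤ) by simp [MonoidAlgebra.smul_single],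
      map_zsmul, map_zsmul]
    refine congrArg (n • ·) ?_
    show Lambda.N _ k = pw ι k _
    rw [pw_single, one_zsmul, Lambda.N_congr (e' := fun j => ({ι m} : Multiset A).esymm j) (cs_zero _ _)
      (Lambda.esymm_zero' _) k fun j _ _ => ?_, Lambda.N_esymm _ hk]
    · simp
    · rw [cs, lsM_single, one_zsmul, toMul_ofMul]
      have h := KRRLam.ElemExt.val_prod_lineUnit ({ι m} : Multiset A)
      rw [Multiset.map_singleton, Multiset.prod_singleton] at h
      rw [h, PowerSeries.coeff_mk]

/-- The operation `i` on combinations. -/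
def W (i : ℕ) (z : MonoidAlgebra ℤ M) : MonoidAlgebra ℤ M := cs (MonoidAlgebra.of ℤ M) z i

theorem map_cs {B : Type*} [CommRing B] (g : A →+* B) (ι : M →* A) (z : MonoidAlgebra ℤ M) (n : ℕ) :
    g (cs ι z n) = cs (g.toMonoidHom.comp ι) z n := by
  have h1 : mapMA g (MonoidAlgebra.mapDomainRingHom ℤ ι z) =
      MonoidAlgebra.mapDomainRingHom ℤ (g.toMonoidHom.comp ι) z := by
    induction z using MonoidAlgebra.induction_linear with
    | zero => simp
    | add a b ha hb => simp only [map_add, ha, hb]
    | single m k =>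
      show mapMA g (MonoidAlgebra.mapDomain (⇑ι) (MonoidAlgebra.single m k)) =
        MonoidAlgebra.mapDomain (⇑(g.toMonoidHom.comp ι)) (MonoidAlgebra.single m k)
      rw [MonoidAlgebra.mapDomain_single, MonoidAlgebra.mapDomain_single, mapMA_single]
      rfl
  have h2 := ls_map g (MonoidAlgebra.mapDomainRingHom ℤ ι z)
  rw [h1] at h2
  show g (PowerSeries.coeff n _) = PowerSeries.coeff n
    (Units.val (α := PowerSeries B) (Additive.toMul (ls (MonoidAlgebra.mapDomainRingHom ℤ (g.toMonoidHom.comp ι) z))))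
  rw [h2]
  exact (PowerSeries.coeff_map g n _).symm

theorem cs_comp {M' : Type*} [CommMonoid M'] (p : M' →* M) (ι : M →* A) (z : MonoidAlgebra ℤ M') :
    cs (ι.comp p) z = cs ι (MonoidAlgebra.mapDomainRingHom ℤ p z) := by
  have h : MonoidAlgebra.mapDomainRingHom ℤ (ι.comp p) z =
      MonoidAlgebra.mapDomainRingHom ℤ ι (MonoidAlgebra.mapDomainRingHom ℤ p z) := by
    induction z using MonoidAlgebra.induction_linear with
    | zero => simp
    | add a b ha hb => simp only [map_add, ha, hb]
    | single m k =>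
      show MonoidAlgebra.mapDomain (⇑(ι.comp p)) (MonoidAlgebra.single m k) =
        MonoidAlgebra.mapDomain (⇑ι) (MonoidAlgebra.mapDomain (⇑p) (MonoidAlgebra.single m k))
      rw [MonoidAlgebra.mapDomain_single, MonoidAlgebra.mapDomain_single, MonoidAlgebra.mapDomain_single]
      rfl
  funext n
  exact congrArg (fun w => PowerSeries.coeff n (Units.val (α := PowerSeries A) (Additive.toMul (ls w)))) h

theorem W_natural {M' : Type*} [CommMonoid M'] (p : M' →* M) (i : ℕ) (z : MonoidAlgebra ℤ M') :
    W i (MonoidAlgebra.mapDomainRingHom ℤ p z) = MonoidAlgebra.mapDomainRingHom ℤ p (W i z) := by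
  rw [W, W, map_cs, ← cs_comp]
  congr 1
  ext m
  simp

/-- The power sums of `W i`. -/
theorem pw_W [Algebra ℚ A] (ι : M →* A) (i : ℕ) {k : ℕ} (hk : 1 ≤ k) (z : MonoidAlgebra ℤ M) :
    pw ι k (W i z) = Lambda.E (fun m => Lambda.N (cs ι z) (m * k)) i := by
  rw [W, map_cs, ← Lambda.E_N (cs_zero _ z) i]
  refine Lambda.E_congr i fun m hm _ => ?_
  rw [N_cs _ hm, N_cs _ (Nat.mul_pos hm hk)]
  induction z using MonoidAlgebra.induction_linear with
  | zero => rw [map_zero, map_zero]
  | add a b ha hb => rw [map_add, map_add, ha, hb]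
  | single x c =>
    rw [pw_single, pw_single]
    show c • (pw ι k (MonoidAlgebra.single x 1)) ^ m = c • ι x ^ (m * k)
    rw [pw_single, one_zsmul, ← pow_mul, Nat.mul_comm]

end Series

section Universal

variable {M : Type u} [CommMonoid M]

/-- The monoid map to the polynomial ring on a monoid. -/
def freeι (M : Type u) : Multiplicative (M →₀ ℕ) →* MvPolynomial M ℤ := MvPolynomial.monomialOneHom ℤ M

/-- The product. -/
def freeP (M : Type u) [CommMonoid M] : Multiplicative (M →₀ ℕ) →* M where
  toFun d := d.toAdd.prod fun m n => m ^ n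
  map_one' := Finsupp.prod_zero_index
  map_mul' a b := Finsupp.prod_add_index' (fun m => pow_zero m) (fun m x y => pow_add m x y)

theorem exists_lift (z : MonoidAlgebra ℤ M) :
    ∃ z', MonoidAlgebra.mapDomainRingHom ℤ (freeP M) z' = z := by
  induction z using MonoidAlgebra.induction_linear with
  | zero => exact ⟨0, map_zero _⟩
  | add a b ha hb =>
    obtain ⟨a', rfl⟩ := ha
    obtain ⟨b', rfl⟩ := hb
    exact ⟨a' + b', map_add _ _ _⟩
  | single m n =>
    refine ⟨MonoidAlgebra.single (Multiplicative.ofAdd (Finsupp.single m 1)) n, ?_⟩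
    show MonoidAlgebra.mapDomain (⇑(freeP M)) (MonoidAlgebra.single _ n) = _
    rw [MonoidAlgebra.mapDomain_single]
    congr 1
    show Finsupp.prod (Finsupp.single m 1) (fun x y => x ^ y) = m
    rw [Finsupp.prod_single_index (pow_zero m), pow_one]

variable {A : Type v} [CommRing A] (ι : M →* A)

/-- The evaluation of the polynomial ring on a monoid. -/
def freeθ : MvPolynomial M ℤ →+* A := (MvPolynomial.aeval fun m => ι m).toRingHom

theorem freeθ_comp : (freeθ ι).toMonoidHom.comp (freeι M) = ι.comp (freeP M) := by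
  refine MonoidHom.ext fun d => ?_
  show MvPolynomial.aeval (fun m => ι m) (MvPolynomial.monomial d.toAdd 1) = ι (freeP M d)
  rw [MvPolynomial.aeval_monomial, map_one, one_mul]
  exact ((map_finsuppProd ι _ _).trans (Finsupp.prod_congr fun m _ => map_pow ι m _)).symm

theorem cs_lift (z : MonoidAlgebra ℤ (Multiplicative (M →₀ ℕ))) (n : ℕ) :
    freeθ ι (cs (freeι M) z n) = cs ι (MonoidAlgebra.mapDomainRingHom ℤ (freeP M) z) n := by
  rw [map_cs, freeθ_comp, cs_comp]

/-- The rational polynomial ring on a monoid. -/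
def freeQ (M : Type u) : MvPolynomial M ℤ →+* MvPolynomial M ℚ := MvPolynomial.map (Int.castRingHom ℚ)

theorem freeQ_injective : Function.Injective (freeQ M) := MvPolynomial.map_injective _ Int.cast_injective

theorem cs_mul {n : ℕ} {P : MvPolynomial (Fin n ⊕ Fin n) ℤ} (hP : IsMulPoly n P)
    (z z' : MonoidAlgebra ℤ M) :
    cs ι (z * z') n =
      MvPolynomial.aeval (Sum.elim (fun k : Fin n => cs ι z (k + 1)) fun k : Fin n => cs ι z' (k + 1)) P := by
  obtain ⟨y, rfl⟩ := exists_lift z
  obtain ⟨y', rfl⟩ := exists_lift z'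
  have key : cs (freeι M) (y * y') n = MvPolynomial.aeval
      (Sum.elim (fun k : Fin n => cs (freeι M) y (k + 1)) fun k : Fin n => cs (freeι M) y' (k + 1)) P := by
    refine freeQ_injective ?_
    rw [Lambda.map_aeval_int, map_cs]
    set κ := (freeQ M).toMonoidHom.comp (freeι M)
    rw [← Lambda.E_N (cs_zero κ (y * y')) n]
    refine Eq.trans ?_ ((Lambda.U_mul hP (cs κ y) (cs κ y') (cs_zero _ _) (cs_zero _ _)).symm.trans ?_)
    · exact Lambda.E_congr n fun k hk _ => by rw [N_cs _ hk, N_cs _ hk, N_cs _ hk, map_mul]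
    · congr 2
      funext s
      rcases s with k | k <;> exact (map_cs _ _ _ _).symm
  have := congrArg (freeθ ι) key
  rw [cs_lift, map_mul, Lambda.map_aeval_int] at this
  rw [this]
  congr 2
  funext s
  rcases s with k | k <;> exact cs_lift ι _ _

theorem cs_W {i j : ℕ} {Q : MvPolynomial (Fin (i * j)) ℤ} (hQ : IsCompPoly i j Q) (z : MonoidAlgebra ℤ M) :
    cs ι (W i z) j = MvPolynomial.aeval (fun k : Fin (i * j) => cs ι z (k + 1)) Q := by
  obtain ⟨y, rfl⟩ := exists_lift z
  have key : cs (freeι M) (W i y) j =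
      MvPolynomial.aeval (fun k : Fin (i * j) => cs (freeι M) y (k + 1)) Q := by
    refine freeQ_injective ?_
    rw [Lambda.map_aeval_int, map_cs]
    set κ := (freeQ M).toMonoidHom.comp (freeι M)
    rw [← Lambda.E_N (cs_zero κ (W i y)) j]
    refine Eq.trans ?_ ((Lambda.U_comp hQ (cs κ y) (cs_zero _ _)).symm.trans ?_)
    · exact Lambda.E_congr j fun k hk _ => by rw [N_cs _ hk, pw_W _ i hk]
    · congr 2
      funext s
      exact (map_cs _ _ _ _).symm
  have := congrArg (freeθ ι) key
  rw [cs_lift, ← W_natural, Lambda.map_aeval_int] at this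
  rw [this]
  congr 2
  funext s
  exact cs_lift ι _ _

end Universal

section Ring

variable {L : Type u} [CommRing L] [LambdaOps L] {M : Type u} [CommMonoid M] (ι : M →* L)
  (hι : ∀ (m : M) (i : ℕ), 2 ≤ i → LambdaOps.lam i (ι m) = 0)

/-- The value of a combination. -/
def val : MonoidAlgebra ℤ M →+* L := (MonoidAlgebra.lift ℤ L M ι).toRingHom

theorem val_single (m : M) (n : ℤ) : val ι (MonoidAlgebra.single m n) = n • ι m :=
  MonoidAlgebra.lift_single _ _ _

/-- The lambda series, with values in units. -/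
def lamUnit : L →+ Additive (PowerSeries L)ˣ :=
  AddMonoidHom.mk' (fun x => Additive.ofMul (isUnit_lamSeries x).unit)
    fun x y => Additive.toMul.injective (Units.ext (lamSeries_add x y))

include hι in
theorem lam_val (z : MonoidAlgebra ℤ M) (n : ℕ) : LambdaOps.lam n (val ι z) = cs ι z n := by
  have h : (lamUnit (L := L)).comp (val ι).toAddMonoidHom = lsM ι := by
    refine AddMonoidHom.ext fun z => ?_
    induction z using MonoidAlgebra.induction_linear with
    | zero => rw [map_zero, map_zero]
    | add a b ha hb => rw [map_add, map_add, ha, hb]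
    | single m k =>
      show lamUnit (val ι _) = _
      rw [val_single, lsM_single, map_zsmul]
      refine congrArg (k • ·) (Additive.toMul.injective (Units.ext ?_))
      show lamSeries (ι m) = _
      rw [toMul_ofMul, KRRLam.ElemExt.val_lineUnit]
      ext j
      rcases j with _ | _ | j
      · simp [lamSeries, LambdaOps.lam_zero]
      · simp [lamSeries, LambdaOps.lam_one, PowerSeries.coeff_one]
      · simp [lamSeries, PowerSeries.coeff_one, PowerSeries.coeff_X, hι m (j + 1 + 1) (by omega)]
  rw [cs, ← h]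
  show _ = PowerSeries.coeff n (lamSeries (val ι z))
  rw [lamSeries, PowerSeries.coeff_mk]

theorem val_W (i : ℕ) (z : MonoidAlgebra ℤ M) : val ι (W i z) = cs ι z i := by
  rw [W, map_cs]
  congr 1
  refine MonoidHom.ext fun m => ?_
  show val ι (MonoidAlgebra.single m 1) = ι m
  rw [val_single, one_zsmul]

include hι in
theorem lam_mul_val {n : ℕ} {P : MvPolynomial (Fin n ⊕ Fin n) ℤ} (hP : IsMulPoly n P)
    (z z' : MonoidAlgebra ℤ M) :
    LambdaOps.lam n (val ι z * val ι z') = MvPolynomial.aeval
      (Sum.elim (fun k : Fin n => LambdaOps.lam ((k : ℕ) + 1) (val ι z))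
        fun k : Fin n => LambdaOps.lam ((k : ℕ) + 1) (val ι z')) P := by
  simp only [← map_mul, lam_val ι hι]
  exact cs_mul ι hP z z'

include hι in
theorem lam_lam_val {i j : ℕ} {Q : MvPolynomial (Fin (i * j)) ℤ} (hQ : IsCompPoly i j Q)
    (z : MonoidAlgebra ℤ M) :
    LambdaOps.lam j (LambdaOps.lam i (val ι z)) =
      MvPolynomial.aeval (fun k : Fin (i * j) => LambdaOps.lam ((k : ℕ) + 1) (val ι z)) Q := by
  rw [lam_val ι hι z i, ← val_W, lam_val ι hι]
  simp only [lam_val ι hι]
  exact cs_W ι hQ z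

theorem exists_val {S : Set L} (hS : S ⊆ Set.range ι) {x : L} (hx : x ∈ AddSubgroup.closure S) :
    ∃ z, val ι z = x := by
  induction hx using AddSubgroup.closure_induction with
  | mem y hy =>
    obtain ⟨m, rfl⟩ := hS hy
    exact ⟨MonoidAlgebra.single m 1, (val_single ι m 1).trans (one_zsmul _)⟩
  | zero => exact ⟨0, map_zero _⟩
  | add a b _ _ ha hb =>
    obtain ⟨za, rfl⟩ := ha
    obtain ⟨zb, rfl⟩ := hb
    exact ⟨za + zb, map_add _ _ _⟩
  | neg a _ ha =>
    obtain ⟨za, rfl⟩ := ha
    exact ⟨-za, map_neg _ _⟩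

end Ring

/-- A lambda ring is special when pairs of elements embed into combinations of rank one elements. -/
theorem isSpecial_of_embed {K : Type w} [CommRing K] [LambdaOps K]
    (h1 : ∀ n : ℕ, 2 ≤ n → LambdaOps.lam n (1 : K) = 0)
    (hsplit : ∀ x y : K, ∃ (L : Type u) (_ : CommRing L) (_ : LambdaOps L) (g : K →+* L) (M : Type u)
      (_ : CommMonoid M) (ι : M →* L), Function.Injective g ∧ (∀ i a, g (LambdaOps.lam i a) = LambdaOps.lam i (g a)) ∧
      (∀ (m : M) (i : ℕ), 2 ≤ i → LambdaOps.lam i (ι m) = 0) ∧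
      g x ∈ AddSubgroup.closure (Set.range ι) ∧ g y ∈ AddSubgroup.closure (Set.range ι)) :
    IsSpecial K where
  lam_one_eq_zero := h1
  lam_mul n P hP x y := by
    obtain ⟨L, _, _, g, M, _, ι, hg, hl, hι, hx, hy⟩ := hsplit x y
    obtain ⟨z, hz⟩ := exists_val ι subset_rfl hx
    obtain ⟨z', hz'⟩ := exists_val ι subset_rfl hy
    apply hg
    rw [hl, map_mul, Lambda.map_aeval_int, ← hz, ← hz', lam_mul_val ι hι hP]
    congr 2
    funext s
    rcases s with k | k <;> simp [hl, hz, hz']
  lam_lam i j Q hQ x := by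
    obtain ⟨L, _, _, g, M, _, ι, hg, hl, hι, hx, -⟩ := hsplit x x
    obtain ⟨z, hz⟩ := exists_val ι subset_rfl hx
    apply hg
    rw [hl, hl, Lambda.map_aeval_int, ← hz, lam_lam_val ι hι hQ]
    congr 2
    funext s
    simp [hl, hz]

end Groth.Agent.KSplit
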