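import Groth.Agent.KSplit.Model
import Groth.Agent.KSplit.Small
import Groth.Agent.KSplit.Special

/-!
The lambda-ring of bundles of a quasi-compact scheme is special.
-/

set_option autoImplicit false
set_option linter.unusedSectionVars false
set_option linter.style.haveILetI false
set_option backward.isDefEq.respectTransparency false
set_option backward.isDefEq.respectTransparency.types false
set_option maxHeartbeats 1000000

universe v u

open CategoryTheory CategoryTheory.Limits AlgebraicGeometry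
open LambdaRing

noncomputable section

namespace Groth.Agent.KSplit

theorem small_unit (X : Scheme.{u}) : Small (Coh.structureModule X) := small_of_rank SGA6Ext.isRank_unit

theorem isSpecial_model {S : Scheme.{u}} [CompactSpace ↥S] {K : Type v} [CommRing K] [LambdaOps K]
    {φ : SGA6.Kvb S →+ K} (hφ : Function.Bijective φ) (h1 : φ (KRR.cl S (Coh.structureModule S)) = 1)
    (hmul : ∀ E F : S.Modules, FlatMod.IsFinLocFree E → FlatMod.IsFinLocFree F →
      φ (KRR.cl S E) * φ (KRR.cl S F) = φ (KRR.cl S (((DCoh.tensorBi (X := S)).obj E).obj F)))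
    (hlam : ∀ (i : ℕ) (E L : S.Modules), FlatMod.IsFinLocFree E → FlatMod.IsFinLocFree L →
      ExtPow.IsExtPow i E L → LambdaOps.lam i (φ (KRR.cl S E)) = φ (KRR.cl S L)) : IsSpecial K := by
  letI := SGA6Ext.kvbRing S
  letI := SGA6Ext.kvbLam S
  obtain ⟨ψ, hψ, hψ'⟩ := Function.bijective_iff_has_inverse.1 hφ
  have ψ_lam : ∀ i a, ψ (LambdaOps.lam i a) = SGA6Ext.lamK S i (ψ a) := fun i a =>
    hφ.1 (by rw [map_lamK h1 hmul hlam, hψ', hψ'])
  refine isSpecial_of_embed.{v, u + 1} (fun n hn => ?_) fun x y => ?_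
  · have e : ψ (1 : K) = SGA6Ext.oneK S := hφ.1 ((hψ' 1).trans h1.symm)
    rw [← hψ' (LambdaOps.lam n (1 : K)), ψ_lam, e,
      show SGA6Ext.oneK S = SGA6Ext.cls (Coh.structureModule S) from rfl, lamK_small (small_unit S) hn, map_zero]
  · obtain ⟨T₁, f₁, hc₁, hi₁, hv₁⟩ := exists_small (ψ x) S ‹_› (𝟙 S)
    obtain ⟨T, f₂, hc, hi₂, hv₂⟩ := exists_small (ψ y) T₁ hc₁ f₁
    rw [pullK_id] at hv₁
    let f := f₂ ≫ f₁
    letI := SGA6Ext.kvbRing T
    letI := SGA6Ext.kvbLam T
    let M : Submonoid (SGA6.Kvb T) :=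
      { carrier := SmSet T
        one_mem' := ⟨_, small_unit T, rfl⟩
        mul_mem' := by
          rintro _ _ ⟨A, hA, rfl⟩ ⟨B, hB, rfl⟩
          exact ⟨_, small_tm hA hB, (SGA6Ext.mulK_cls hA.1 hB.1).symm⟩ }
    let g : K →+* SGA6.Kvb T :=
      { toFun := fun a => SGA6Ext.pullK f (ψ a)
        map_one' := by
          rw [show ψ (1 : K) = SGA6Ext.oneK S from hφ.1 ((hψ' 1).trans h1.symm)]
          exact pullK_one f
        map_mul' := fun a b => by
          rw [show ψ (a * b) = SGA6Ext.mulK S (ψ a) (ψ b) from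
            hφ.1 (by rw [map_mulK hmul, hψ', hψ', hψ']), pullK_mulK]
          rfl
        map_zero' := by
          rw [show ψ 0 = 0 from hφ.1 (by rw [hψ', map_zero]), map_zero]
        map_add' := fun a b => by
          rw [show ψ (a + b) = ψ a + ψ b from hφ.1 (by rw [map_add, hψ', hψ', hψ']), map_add] }
    have hM : Set.range M.subtype = SmSet T := Subtype.range_coe
    refine ⟨SGA6.Kvb T, inferInstance, inferInstance, g, M, inferInstance, M.subtype, fun a b h => ?_,
      fun i a => ?_, fun m i hi => ?_, ?_, ?_⟩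
    · refine hψ'.injective (hi₁ (hi₂ ?_))
      change SGA6Ext.pullK f (ψ a) = SGA6Ext.pullK f (ψ b) at h
      rwa [pullK_comp, pullK_comp] at h
    · show SGA6Ext.pullK f (ψ (LambdaOps.lam i a)) = SGA6Ext.lamK T i (SGA6Ext.pullK f (ψ a))
      rw [ψ_lam, pullK_lamK]
    · obtain ⟨-, A, hA, rfl⟩ := m
      exact lamK_small hA hi
    · rw [hM]
      show SGA6Ext.pullK f (ψ x) ∈ Vt T
      rw [pullK_comp]
      exact pullK_mem_Vt f₂ hv₁
    · rw [hM]
      show SGA6Ext.pullK f (ψ y) ∈ Vt T
      rw [pullK_comp]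
      exact hv₂

end Groth.Agent.KSplit
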