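import Groth.Agent.PBReg.Model
import Groth.Agent.CycPB.ProjExist
import Groth.Agent.KSplit.Pull
import Groth.Agent.DualGeneric.SubK

/-!
Splitting bundles by towers of projective bundles.
-/

set_option autoImplicit false
set_option linter.unusedSectionVars false
set_option linter.style.haveILetI false
set_option backward.isDefEq.respectTransparency false
set_option backward.isDefEq.respectTransparency.types false
set_option maxHeartbeats 1000000

universe u

open CategoryTheory CategoryTheory.Limits AlgebraicGeometry TopologicalSpace Opposite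

noncomputable section

namespace Groth.Agent.KSplit

open PBReg (Bun)

variable {n : ℕ} {T : Scheme.{u}} (X : Bun n T)

theorem nonempty_bun [hT : Nonempty ↥T] : Nonempty ↥X.P := by
  obtain ⟨y⟩ := hT
  obtain ⟨V, hyV, -, ⟨c⟩⟩ := PBReg.exists_chart X (U := ⊤) (y := y) trivial
  obtain ⟨r, -⟩ := ProjMor.exists_lift n Γ(T, V) (𝟙 _)
  obtain ⟨z, -⟩ : y ∈ Set.range c.aff.fromSpec.base := by rw [c.aff.range_fromSpec]; exact hyV
  exact ⟨(r ≫ c.q).base z⟩

theorem bijective_appTop : Function.Bijective (X.π.app ⊤) := by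
  let f := X.π
  obtain ⟨ψ⟩ := PBReg.nonempty_push_unit X
  let one : Γ(Coh.structureModule T, ⊤) := (1 : Γ(T, ⊤))
  let g₀ : Γ(X.P, f ⁻¹ᵁ ⊤) := ψ.inv.app ⊤ one
  let η : Γ(X.P, f ⁻¹ᵁ ⊤) → Γ(T, ⊤) := fun x => ψ.hom.app ⊤ x
  have hlin : ∀ (a : Γ(T, ⊤)) (x : Γ(X.P, f ⁻¹ᵁ ⊤)), η (f.app ⊤ a * x) = a * η x := fun a x =>
    Scheme.Modules.Hom.app_smul ψ.hom (U := ⊤) a x
  have hη : Function.Injective η := (ConcreteCategory.bijective_of_isIso (ψ.hom.app ⊤)).1
  have hg : η g₀ = 1 := congrArg (RegKos.ev (U := (⊤ : T.Opens)) one) ψ.inv_hom_id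
  have h1 : ∀ x, x = f.app ⊤ (η x) * g₀ := fun x => hη (by rw [hlin, hg, mul_one])
  have hu : f.app ⊤ (η (g₀ * g₀)) * g₀ = g₀ * g₀ := (h1 _).symm
  refine ⟨fun a b hab => ?_, fun x => ⟨η x * η (g₀ * g₀), ?_⟩⟩
  · have h : η (f.app ⊤ a * g₀) = η (f.app ⊤ b * g₀) := congrArg (fun t => η (t * g₀)) hab
    rwa [hlin, hlin, hg, mul_one, mul_one] at h
  · have e1 : g₀ * f.app ⊤ (η 1) = 1 := (mul_comm _ _).trans (h1 1).symm
    have e2 : g₀ = f.app ⊤ (η (g₀ * g₀)) := by
      calc g₀ = g₀ * g₀ * f.app ⊤ (η 1) := by rw [mul_assoc, e1, mul_one]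
        _ = f.app ⊤ (η (g₀ * g₀)) * (g₀ * f.app ⊤ (η 1)) := by rw [← mul_assoc, hu]
        _ = f.app ⊤ (η (g₀ * g₀)) := by rw [e1, mul_one]
    rw [map_mul, ← e2]
    exact (h1 x).symm

theorem connectedSpace_bun [ConnectedSpace ↥T] : ConnectedSpace ↥X.P := by
  haveI : PreconnectedSpace X.P := DualGeneric.Sub.preconnectedSpace_of_idempotent fun e he => by
    obtain ⟨a, rfl⟩ := (bijective_appTop X).2 e
    have ha : IsIdempotentElem a := (bijective_appTop X).1 (by rw [map_mul]; exact he.eq)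
    rcases DualGeneric.eq_zero_or_one_of_idempotent ha with rfl | rfl
    · exact Or.inl (map_zero _)
    · exact Or.inr (map_one _)
  exact { toNonempty := nonempty_bun X }

/-- A property of schemes inherited by projective bundles. -/
def Stable (Q : Scheme.{u} → Prop) : Prop :=
  ∀ ⦃n : ℕ⦄ ⦃T : Scheme.{u}⦄ (X : Bun n T), IsProper X.π → Q T → Q X.P

theorem stable_compact : Stable.{u} fun T => CompactSpace ↥T := fun n T X _ h =>
  haveI := h
  QuasiCompact.compactSpace_of_compactSpace X.π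

theorem stable_noeth : Stable.{u} fun T => IsNoetherian T ∧ ConnectedSpace ↥T := fun n T X _ h => by
  obtain ⟨_, _⟩ := h
  haveI : IsLocallyNoetherian X.P := LocallyOfFiniteType.isLocallyNoetherian X.π
  haveI : CompactSpace ↥X.P := QuasiCompact.compactSpace_of_compactSpace X.π
  exact ⟨{}, connectedSpace_bun X⟩

/-- A bundle becomes a sum of lines on a tower with injective inverse image. -/
theorem exists_split {Q : Scheme.{u} → Prop} (hQ : Stable Q) (hc : ∀ T, Q T → CompactSpace ↥T) :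
    ∀ (m : ℕ) (T : Scheme.{u}), Q T → ∀ E : T.Modules, FlatMod.IsFinLocFreeOfRank m E →
      ∃ (T' : Scheme.{u}) (f : T' ⟶ T), Q T' ∧ Function.Injective (SGA6Ext.pullK f) ∧
        ∃ L : Fin m → T'.Modules, (∀ i, FlatMod.IsFinLocFreeOfRank 1 (L i)) ∧
          SGA6Ext.pullK f (SGA6Ext.cls E) = ∑ i, SGA6Ext.cls (L i) := by
  intro m
  induction m with
  | zero =>
    intro T hT E hE
    refine ⟨T, 𝟙 T, hT, fun a b h => by rwa [pullK_id, pullK_id] at h, fun i => i.elim0, fun i => i.elim0, ?_⟩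
    have hz := SGA6Ext.isZero_of_rank_zero hE
    have hf := DQCoh.isFinLocFree_of_isZero hz
    have h1 : (ShortComplex.mk (0 : E ⟶ E) (0 : E ⟶ E) zero_comp).ShortExact :=
      { exact := ShortComplex.exact_of_isZero_X₂ _ hz
        mono_f := ⟨fun _ _ _ => hz.eq_of_tgt _ _⟩
        epi_g := ⟨fun _ _ _ => hz.eq_of_src _ _⟩ }
    rw [pullK_id, Finset.univ_eq_empty, Finset.sum_empty]
    exact left_eq_add.1 (K0Res.clSub_add (fun M => FlatMod.IsFinLocFree M) h1 hf hf hf)
  | succ m ih =>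
    intro T hT E hE
    obtain ⟨P, p, O, q, hB, hp, -⟩ := CycPB.exists_projBundle hE
    let X : Bun m T := ⟨P, p, E, hE, O, q, hB⟩
    haveI := hc T hT
    have hP : Q P := hQ X hp hT
    haveI := hB.epi
    have hpE := Nagata.isFinLocFreeOfRank_pullback p hE
    have hK := CycPB.isFinLocFreeOfRank_kernel q hpE (ZeroSch.isInvertible_of_rankOne hB.invertible)
    obtain ⟨T', f, hT', hf, L, hL, hsum⟩ := ih P hP (kernel q) hK
    have hinj : Function.Injective (SGA6Ext.pullK p) :=
      Function.LeftInverse.injective (g := X.pushK) fun x => PBReg.pushK_pullK (X := X) x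
    refine ⟨T', f ≫ p, hT', fun a b h => hinj (hf (by rwa [pullK_comp, pullK_comp] at h)),
      Fin.cons ((Scheme.Modules.pullback f).obj O) L, ?_, ?_⟩
    · intro i
      refine Fin.cases ?_ (fun i => ?_) i
      · exact Nagata.isFinLocFreeOfRank_pullback f hB.invertible
      · exact hL i
    · rw [pullK_comp, SGA6Ext.pullK_cls p (SGA6Ext.finLocFree_of_rank hE)]
      have hS : (ShortComplex.mk (kernel.ι q) q (kernel.condition q)).ShortExact := { exact := ShortComplex.exact_kernel q }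
      have h : SGA6Ext.cls ((Scheme.Modules.pullback p).obj E) = SGA6Ext.cls (kernel q) + SGA6Ext.cls O :=
        K0Res.clSub_add (fun M => FlatMod.IsFinLocFree M) hS (SGA6Ext.finLocFree_of_rank hK)
          (SGA6Ext.finLocFree_of_rank hpE) (SGA6Ext.finLocFree_of_rank hB.invertible)
      rw [h, map_add, hsum, SGA6Ext.pullK_cls f (SGA6Ext.finLocFree_of_rank hB.invertible), Fin.sum_univ_succ]
      simp only [Fin.cons_zero, Fin.cons_succ]
      exact add_comm _ _

end Groth.Agent.KSplit
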